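import Groth.Agent.Lib.AdmOpen4.Main

/-!
# The strict transform along a blowing up is a blowing up
-/

set_option autoImplicit false
set_option backward.isDefEq.respectTransparency false
universe u

open CategoryTheory CategoryTheory.Limits AlgebraicGeometry TopologicalSpace

namespace Groth.Agent.AdmOpen4

variable {P X Y T : Scheme.{u}}

/-- An open immersion strict transform along a blowing up is the blowing up in the inverse image centre. -/
theorem isBlowUp_of_isStrict {p : P ⟶ X} {c : Y ⟶ X} {V : X.Opens} {a : T ⟶ P} {s : T ⟶ Y}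
    (hS : IsStrict p c V a s) [IsOpenImmersion s] {I : X.IdealSheafData} (hc : BlowUp.IsBlowUp c I)
    (hsupp : (I.support : Set X) = (V : Set X)ᶜ) : BlowUp.IsBlowUp a (I.comap p) := by
  refine ⟨?_, fun Z g hg => ?_⟩
  · rw [← Scheme.IdealSheafData.comap_comp, hS.w, Scheme.IdealSheafData.comap_comp]
    exact BlowUpExist.isEffCartierIdeal_comap_of_isOpenImmersion hc.1 s
  rw [← Scheme.IdealSheafData.comap_comp] at hg
  obtain ⟨v, hv, hv'⟩ := hc.2 Z (g ≫ p) hg
  haveI := hS.closed
  let t := pullback.lift a s hS.w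
  let gv : Z ⟶ pullback p c := pullback.lift g v hv.symm
  let O := (g ≫ p) ⁻¹ᵁ V
  haveI : IsSchemeTheoreticallyDominant O.ι := by
    have h := EffCartier.dominant_cmpl hg
    rwa [← cmpl_eq hsupp (g ≫ p)] at h
  obtain ⟨hO, ha, hs⟩ := hS.univ _ (O.ι ≫ g) (O.ι ≫ v) (by simp only [Category.assoc, hv]) (fun z => by
    rw [← Scheme.Hom.comp_apply, Category.assoc, hv]; exact z.2)
  have hker : t.ker ≤ gv.ker := by
    have he : O.ι ≫ gv = hO ≫ t := by
      apply pullback.hom_ext
      · simp only [gv, t, Category.assoc, pullback.lift_fst, ha]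
      · simp only [gv, t, Category.assoc, pullback.lift_snd, hs]
    refine (hO.le_ker_comp t).trans ?_
    rw [← he, Scheme.Hom.ker_comp, Scheme.Hom.ker_eq_bot, Scheme.IdealSheafData.map_bot]
  refine ⟨IsClosedImmersion.lift t gv hker, ?_, fun h hh => ?_⟩
  · exact ((congrArg (_ ≫ ·) (pullback.lift_fst a s hS.w).symm).trans (Category.assoc _ _ _).symm).trans
      ((congrArg (· ≫ pullback.fst p c) (IsClosedImmersion.lift_fac t gv hker)).trans (pullback.lift_fst _ _ _))
  · have h2 : h ≫ t = gv := by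
      have hsv : h ≫ s = v := hv' _ (by
        show (h ≫ s) ≫ c = g ≫ p
        rw [Category.assoc, ← hS.w, ← Category.assoc, hh])
      apply pullback.hom_ext
      · simpa [t, gv] using hh
      · simpa [t, gv] using hsv
    rw [← cancel_mono t, IsClosedImmersion.lift_fac, h2]

theorem isBlowUp_iso_comp {c : Y ⟶ X} {I : X.IdealSheafData} (hc : BlowUp.IsBlowUp c I) (e : T ⟶ Y) [IsIso e] :
    BlowUp.IsBlowUp (e ≫ c) I := by
  refine ⟨?_, fun Z g hg => ?_⟩
  · rw [Scheme.IdealSheafData.comap_comp]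
    exact BlowUpExist.isEffCartierIdeal_comap_of_isOpenImmersion hc.1 e
  · obtain ⟨v, hv, hv'⟩ := hc.2 Z g hg
    refine ⟨v ≫ inv e, by simpa using hv, fun h hh => ?_⟩
    rw [← hv' (h ≫ e) (by simpa using hh)]
    simp

theorem isAdmissibleFor_comap {p : P ⟶ X} {V : X.Opens} {I : X.IdealSheafData} (hI : BlowUp.IsAdmissibleFor V I) :
    BlowUp.IsAdmissibleFor (p ⁻¹ᵁ V) (I.comap p) := by
  refine ⟨EffCartier.isFiniteTypeIdeal_comap hI.1 p, ?_⟩
  rw [Scheme.IdealSheafData.support_comap]
  exact hI.2.preimage p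

end Groth.Agent.AdmOpen4
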