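import Groth.Agent.S1281
import Groth.Agent.Lib.BlowUpComp4.Main
import Groth.Agent.Lib.Nagata4.Basics

/-!
# A common target of admissible blow-ups of finitely many models
-/

set_option autoImplicit false
set_option backward.isDefEq.respectTransparency false
universe u

open CategoryTheory CategoryTheory.Limits AlgebraicGeometry TopologicalSpace

namespace Groth.Agent.AdmOpen4

theorem isBlowUp_of_isPullback {X A Y Z : Scheme.{u}} {C : X.IdealSheafData} {b : Y ⟶ X} (hb : BlowUp.IsBlowUp b C)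
    {o : A ⟶ X} [IsOpenImmersion o] {i : Z ⟶ Y} {c : Z ⟶ A} (h : IsPullback i c b o) :
    BlowUp.IsBlowUp c (C.comap o) := by
  haveI : IsOpenImmersion i := MorphismProperty.of_isPullback h.flip ‹IsOpenImmersion o›
  refine ⟨?_, fun T g hg => ?_⟩
  · rw [← Scheme.IdealSheafData.comap_comp, ← h.w, Scheme.IdealSheafData.comap_comp]
    exact BlowUpExist.isEffCartierIdeal_comap_of_isOpenImmersion hb.1 i
  · rw [← Scheme.IdealSheafData.comap_comp] at hg
    obtain ⟨l, hl, hl'⟩ := hb.2 T (g ≫ o) hg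
    refine ⟨h.lift l g hl, h.lift_snd _ _ _, fun y hy => h.hom_ext ?_ ?_⟩
    · rw [h.lift_fst]
      exact hl' _ (by show (y ≫ i) ≫ b = g ≫ o; rw [Category.assoc, h.w, reassoc_of% hy])
    · rw [h.lift_snd, hy]

/-- The lift of an open immersion avoiding the centre is an open immersion onto the inverse image. -/
theorem lift_isOpenImmersion {U X Y : Scheme.{u}} {C : X.IdealSheafData} {b : Y ⟶ X} (hb : BlowUp.IsBlowUp b C)
    (k : U ⟶ X) [IsOpenImmersion k] (hd : Disjoint (C.support : Set X) (k.opensRange : Set X)) (l : U ⟶ Y)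
    (hl : l ≫ b = k) : IsOpenImmersion l ∧ ∀ y, b y ∈ Set.range k → y ∈ Set.range l := by
  obtain ⟨l', hl', hl'b, hl'r⟩ := Nagata4.exists_lift k hb hd
  have heff : BlowUp.IsEffCartierIdeal (C.comap k) := by
    rw [EffCartier.comap_eq_top _ _ fun x hx => Set.disjoint_left.1 hd hx ⟨x, rfl⟩]
    exact EffCartier.isEffCartierIdeal_top
  obtain rfl : l = l' := (hb.2 U k heff).unique hl hl'b
  exact ⟨hl', fun y hy => (SetLike.ext_iff.1 hl'r y).2 hy⟩

/-- The invariant: models with admissible blow-ups open in a common separated target. -/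
def HasTarget {S U : Scheme.{u}} (gU : U ⟶ S) {n : ℕ} (X : Fin n → Scheme.{u}) (g : ∀ i, X i ⟶ S)
    (j : ∀ i, U ⟶ X i) [∀ i, IsOpenImmersion (j i)] : Prop :=
  ∃ (Xc : Scheme.{u}) (q : Xc ⟶ S) (_ : IsSeparated q) (_ : QuasiCompact q) (_ : LocallyOfFiniteType q)
    (k : U ⟶ Xc) (_ : IsOpenImmersion k),
    k ≫ q = gU ∧ ∀ i, ∃ (I : (X i).IdealSheafData) (X' : Scheme.{u}) (b : X' ⟶ X i) (o : X' ⟶ Xc) (l : U ⟶ X'),
      BlowUp.IsBlowUp b I ∧ BlowUp.IsAdmissibleFor (j i).opensRange I ∧ IsOpenImmersion o ∧ o ≫ q = b ≫ g i ∧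
        l ≫ b = j i ∧ l ≫ o = k

variable {S U : Scheme.{u}} [CompactSpace S] [QuasiSeparatedSpace S] (gU : U ⟶ S) [IsSeparated gU] [QuasiCompact gU]
  [LocallyOfFiniteType gU]

theorem hasTarget {n : ℕ} (X : Fin n → Scheme.{u}) (g : ∀ i, X i ⟶ S)
    [∀ i, IsSeparated (g i)] [∀ i, QuasiCompact (g i)] [∀ i, LocallyOfFiniteType (g i)]
    (j : ∀ i, U ⟶ X i) [∀ i, IsOpenImmersion (j i)] (hj : ∀ i, j i ≫ g i = gU) : HasTarget gU X g j := by
  induction n with
  | zero => exact ⟨U, gU, inferInstance, inferInstance, inferInstance, 𝟙 U, inferInstance, Category.id_comp _,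
      fun i => i.elim0⟩
  | succ n ih =>
    obtain ⟨Xc, q, hsq, hqq, hftq, k, hk, hkq, hd⟩ := ih (fun i => X i.castSucc) (fun i => g i.castSucc)
      (fun i => j i.castSucc) (fun i => hj i.castSucc)
    obtain ⟨Xd, r, hsr, hftr, hqr, C, I₂, Y₁, Y₂, c, b₂, o₁, o₂, l₁, l₂, hc, hC, hb₂, hI₂, ho₁, ho₂, hr₁, hr₂, hl₁, hl₂, hl₁₂⟩ :=
      Groth.Agent.S1281.result gU q (g (Fin.last n)) k (j (Fin.last n)) hkq (hj (Fin.last n))
    obtain ⟨hl₁i, hl₁r⟩ := lift_isOpenImmersion hc k hC.2 l₁ hl₁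
    refine ⟨Xd, r, hsr, hqr, hftr, l₁ ≫ o₁, inferInstance, by rw [Category.assoc, hr₁, ← Category.assoc, hl₁, hkq], ?_⟩
    refine Fin.lastCases ⟨I₂, Y₂, b₂, o₂, l₂, hb₂, hI₂, ho₂, hr₂, hl₂, hl₁₂.symm⟩ fun i => ?_
    obtain ⟨I, X', b, o, l, hb, hI, ho, hoq, hlb, hlo⟩ := hd i
    haveI : CompactSpace (X i.castSucc) := QuasiCompact.compactSpace_of_compactSpace (g i.castSucc)
    haveI : QuasiSeparatedSpace (X i.castSucc) := quasiSeparatedSpace_of_quasiSeparated (g i.castSucc)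
    have hpb : IsPullback (pullback.fst c o) (pullback.snd c o) c o := IsPullback.of_hasPullback c o
    let l' := hpb.lift l₁ l (hl₁.trans hlo.symm)
    obtain ⟨K, hK, hKs, hKb⟩ := BlowUpComp4.exists_isBlowUp_comp hb hI.1
      (EffCartier.isFiniteTypeIdeal_comap hC.1 o) (isBlowUp_of_isPullback hc hpb)
    refine ⟨K, _, pullback.snd c o ≫ b, pullback.fst c o ≫ o₁, l', hKb, ⟨hK, ?_⟩, inferInstance, ?_, ?_, ?_⟩
    · rw [hKs, Set.disjoint_union_left]
      refine ⟨hI.2, Set.disjoint_left.2 ?_⟩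
      rintro _ ⟨y, hy, rfl⟩ hyU
      obtain ⟨-, hlr⟩ := lift_isOpenImmersion hb (j i.castSucc) hI.2 l hlb
      obtain ⟨x, rfl⟩ := hlr y hyU
      rw [Scheme.IdealSheafData.support_comap] at hy
      change o (l x) ∈ (C.support : Set Xc) at hy
      rw [← Scheme.Hom.comp_apply, hlo] at hy
      exact Set.disjoint_left.1 hC.2 hy ⟨x, rfl⟩
    · rw [Category.assoc, hr₁, ← Category.assoc, pullback.condition, Category.assoc, hoq, Category.assoc]
    · rw [← Category.assoc, hpb.lift_snd, hlb]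
    · rw [← Category.assoc, hpb.lift_fst]

end Groth.Agent.AdmOpen4
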