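import Groth.Agent.Lib.AdmOpen4.Ring
import Groth.Agent.Lib.AdmBlowUp4.Product
import Groth.Agent.Lib.BlowUp3.ProjData
import Mathlib.AlgebraicGeometry.Morphisms.FiniteType

/-!
# Denominators of a birational morphism over an affine open; the strict transform predicate
-/

set_option autoImplicit false
set_option backward.isDefEq.respectTransparency false
universe u

open CategoryTheory CategoryTheory.Limits AlgebraicGeometry TopologicalSpace

namespace Groth.Agent.AdmOpen4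

/-- `T → P ×_X X'` is the strict transform of `p : P → X` along `g : X' → X` with respect to `V`. -/
structure IsStrict {P X X' T : Scheme.{u}} (p : P ⟶ X) (g : X' ⟶ X) (V : X.Opens) (a : T ⟶ P) (s : T ⟶ X') : Prop where
  w : a ≫ p = s ≫ g
  closed : IsClosedImmersion (pullback.lift a s w)
  dense : IsSchemeTheoreticallyDominant (s ⁻¹ᵁ (g ⁻¹ᵁ V)).ι
  univ : ∀ (Z : Scheme.{u}) (u : Z ⟶ P) (v : Z ⟶ X'), u ≫ p = v ≫ g → (∀ z, g (v z) ∈ V) →
    ∃ h : Z ⟶ T, h ≫ a = u ∧ h ≫ s = v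

variable {P X : Scheme.{u}}

theorem injective_on_preimage (p : P ⟶ X) (V : X.Opens) [IsOpenImmersion (p ∣_ V)] {y z : P}
    (hy : p y ∈ V) (hz : p z ∈ V) (h : p y = p z) : y = z := by
  have := (p ∣_ V).isOpenEmbedding.injective
  have h2 : (⟨y, hy⟩ : (p ⁻¹ᵁ V : P.Opens)) = ⟨z, hz⟩ := this (V.ι.isOpenEmbedding.injective (by
    rw [← Scheme.Hom.comp_apply, ← Scheme.Hom.comp_apply, morphismRestrict_ι]
    exact h))
  exact congrArg Subtype.val h2

/-- Over a basic open inside the image, the piece is isomorphic to its image. -/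
theorem preimage_basicOpen_iso (p : P ⟶ X) (V : X.Opens) [IsOpenImmersion (p ∣_ V)]
    (Pa : P.Opens) (U : X.Opens) (e : Pa ≤ p ⁻¹ᵁ U) (g : Γ(X, U))
    (hgV : X.basicOpen g ≤ V) (hgim : ∀ x ∈ X.basicOpen g, ∃ y ∈ Pa, p y = x) :
    p ⁻¹ᵁ X.basicOpen g = P.basicOpen (p.appLE U Pa e g) ∧ IsIso (p ∣_ X.basicOpen g) := by
  constructor
  · rw [Scheme.basicOpen_appLE]
    refine le_antisymm (fun y hy => ⟨?_, hy⟩) inf_le_right
    obtain ⟨z, hz, hzy⟩ := hgim _ hy
    rw [injective_on_preimage p V (hgV hy) (by rw [hzy]; exact hgV hy) hzy.symm]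
    exact hz
  · have h1 : IsOpenImmersion ((p ∣_ V) ∣_ (V.ι ⁻¹ᵁ X.basicOpen g)) :=
      IsZariskiLocalAtTarget.restrict (P := @IsOpenImmersion) inferInstance _
    have h2 : IsOpenImmersion (p ∣_ X.basicOpen g) := by
      refine ((MorphismProperty.arrow_mk_iso_iff @IsOpenImmersion
        (morphismRestrictRestrict p V (V.ι ⁻¹ᵁ X.basicOpen g) ≪≫ eqToIso ?_)).1 h1)
      rw [Scheme.Hom.image_preimage_eq_opensRange_inf, Scheme.Opens.opensRange_ι, inf_eq_right.2 hgV]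
    have h3 : Epi (p ∣_ X.basicOpen g).base := by
      rw [TopCat.epi_iff_surjective]
      rintro ⟨x, hx⟩
      obtain ⟨y, -, hy⟩ := hgim x hx
      refine ⟨⟨y, show p y ∈ X.basicOpen g from hy ▸ hx⟩, (X.basicOpen g).ι.isOpenEmbedding.injective ?_⟩
      rw [← Scheme.Hom.comp_apply, morphismRestrict_ι]
      exact hy
    exact IsOpenImmersion.isIso (p ∣_ X.basicOpen g)

/-- The denominators on one chart. -/
structure Chart {U : X.Opens} {Pa : P.Opens} (α : Γ(X, U) →+* Γ(P, Pa)) (f : Γ(X, U)) {κ : Type u} (t : κ → Γ(P, Pa)) where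
  ι : Type u
  fin : Fintype ι
  g : ι → Γ(X, U)
  c : ι → Γ(P, Pa)
  M : ℕ
  hc : ∑ j, c j * α (g j) = α f ^ M
  N : ι → ℕ
  b : ι → κ → Γ(X, U)
  hb : ∀ j k, α (g j) ^ N j * t k = α (b j k)
  σ : ∀ j, Γ(P, Pa) →+* Localization.Away (g j)
  hσ : ∀ j, (σ j).comp α = algebraMap _ _

theorem exists_chart (p : P ⟶ X) (V : X.Opens) [IsOpenImmersion (p ∣_ V)]
    (U : X.affineOpens) (Pa : P.affineOpens) (e : Pa.1 ≤ p ⁻¹ᵁ U.1)
    (f : Γ(X, U.1)) (hf : X.basicOpen f ≤ V) {κ : Type u} [Finite κ] (t : κ → Γ(P, Pa.1)) :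
    Nonempty (Chart (p.appLE U.1 Pa.1 e).hom f t) := by
  classical
  cases nonempty_fintype κ
  let α := p.appLE U.1 Pa.1 e
  -- the image of the piece over `D(f)`
  let q := ((p ⁻¹ᵁ V : P.Opens).ι ≫ p)
  haveI : IsOpenImmersion q := by
    show IsOpenImmersion ((p ⁻¹ᵁ V).ι ≫ p)
    rw [← morphismRestrict_ι]; infer_instance
  let D : P.Opens := P.basicOpen (α f)
  have hD : D = Pa.1 ⊓ p ⁻¹ᵁ X.basicOpen f := Scheme.basicOpen_appLE _ _ _ _ _
  have hDc : IsCompact (D : Set P) := (Pa.2.basicOpen _).isCompact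
  let O : X.Opens := q ''ᵁ ((p ⁻¹ᵁ V).ι ⁻¹ᵁ D)
  have hO : (O : Set X) = p '' (D : Set P) := by
    ext x
    constructor
    · rintro ⟨y, hy, rfl⟩; exact ⟨y.1, hy, rfl⟩
    · rintro ⟨y, hy, rfl⟩
      exact ⟨⟨y, hf (hD ▸ hy).2⟩, hy, rfl⟩
  have hOU : O ≤ U.1 := fun x hx => by
    obtain ⟨y, hy, rfl⟩ := hO.le hx
    exact e (P.basicOpen_le _ hy)
  have hOc : IsCompact (O : Set X) := by rw [hO]; exact hDc.image p.continuous
  obtain ⟨s, hs⟩ := hOc.elim_finite_subcover (fun r : {r : Γ(X, U.1) // X.basicOpen r ≤ O} => (X.basicOpen r.1 : Set X))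
    (fun r => (X.basicOpen r.1).2) (fun x hx => by
      obtain ⟨r, hr, hxr⟩ := U.2.exists_basicOpen_le (V := O) ⟨x, hx⟩ (hOU hx)
      exact Set.mem_iUnion.2 ⟨⟨r, hr⟩, hxr⟩)
  have hgV : ∀ r : s, X.basicOpen r.1.1 ≤ V := fun r x hx => by
    obtain ⟨y, hy, rfl⟩ := hO.le (r.1.2 hx)
    exact hf (hD ▸ hy).2
  have hiso : ∀ r : s, p ⁻¹ᵁ X.basicOpen r.1.1 = P.basicOpen (α r.1.1) ∧ IsIso (p ∣_ X.basicOpen r.1.1) := fun r =>
    preimage_basicOpen_iso p V Pa.1 U.1 e r.1.1 (hgV r) fun x hx => by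
      obtain ⟨y, hy, rfl⟩ := hO.le (r.1.2 hx)
      exact ⟨y, P.basicOpen_le _ hy, rfl⟩
  -- the denominators cover the piece over `D(f)`
  have hrad : (α f : Γ(P, Pa.1)) ∈ (Ideal.span (Set.range fun r : s => α r.1.1)).radical := by
    rw [Ideal.radical_eq_sInf, Ideal.mem_sInf]
    rintro J ⟨hJ, hJp⟩
    by_contra hn
    let pt : PrimeSpectrum Γ(P, Pa.1) := ⟨J, hJp⟩
    have hmem : ∀ a, Pa.2.fromSpec pt ∈ P.basicOpen a ↔ a ∉ J := fun a => by
      show pt ∈ Pa.2.fromSpec ⁻¹ᵁ P.basicOpen a ↔ _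
      rw [Pa.2.fromSpec_preimage_basicOpen]
      exact Iff.rfl
    have hy : p (Pa.2.fromSpec pt) ∈ O := hO.ge ⟨_, (hmem _).2 hn, rfl⟩
    obtain ⟨r, hr, hxr⟩ := Set.mem_iUnion₂.1 (hs hy)
    have h : Pa.2.fromSpec pt ∈ p ⁻¹ᵁ X.basicOpen r.1 := hxr
    rw [(hiso ⟨r, hr⟩).1] at h
    exact (hmem _).1 h (hJ (Ideal.subset_span ⟨⟨r, hr⟩, rfl⟩))
  obtain ⟨M, hM⟩ := hrad
  obtain ⟨c, hc⟩ := Ideal.mem_span_range_iff_exists_fun.1 hM
  -- the rational expressions of the generators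
  let A' := fun r : s => Γ(P, p ⁻¹ᵁ X.basicOpen r.1.1)
  let res : ∀ r : s, Γ(P, Pa.1) →+* A' r := fun r =>
    (P.presheaf.map (homOfLE ((hiso r).1.le.trans (P.basicOpen_le _))).op).hom
  let β : ∀ r : s, Γ(X, X.basicOpen r.1.1) →+* A' r := fun r => (p.app (X.basicOpen r.1.1)).hom
  have hres : ∀ r x, res r (α x) = β r (X.presheaf.map (homOfLE (X.basicOpen_le r.1.1)).op x) := fun r x => by
    show (p.appLE U.1 Pa.1 e ≫ P.presheaf.map _) x = (X.presheaf.map _ ≫ p.app _) x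
    rw [Scheme.Hom.appLE_map, Scheme.Hom.app_eq_appLE, Scheme.Hom.map_appLE]
  have hβ : ∀ r, Function.Bijective (β r) := fun r => by
    haveI := (hiso r).2
    haveI : IsIso (p.app (X.basicOpen r.1.1)) := by
      have h := morphismRestrict_app p (X.basicOpen r.1.1) ⊤
      have h2 : IsIso ((p ∣_ X.basicOpen r.1.1).app ⊤) := inferInstance
      rw [h] at h2
      have h3 : IsIso (p.app ((X.basicOpen r.1.1).ι ''ᵁ ⊤)) := IsIso.of_isIso_comp_right (p.app _) (P.presheaf.map (eqToHom (image_morphismRestrict_preimage p (X.basicOpen r.1.1) ⊤)).op)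
      rwa [Scheme.Opens.ι_image_top] at h3
    exact ConcreteCategory.bijective_of_isIso _
  have hloc : ∀ r : s, letI : Algebra Γ(P, Pa.1) (A' r) := (res r).toAlgebra
      IsLocalization.Away (α r.1.1) (A' r) := fun r => by
    exact Pa.2.isLocalization_of_eq_basicOpen _ _ (hiso r).1
  have hden : ∀ (r : s) (k : κ), ∃ (n : ℕ) (b : Γ(X, U.1)), α r.1.1 ^ n * t k = α b := fun r k => by
    letI : Algebra Γ(X, U.1) Γ(X, X.basicOpen r.1.1) := (X.presheaf.map (homOfLE (X.basicOpen_le r.1.1)).op).hom.toAlgebra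
    haveI : IsLocalization.Away r.1.1 Γ(X, X.basicOpen r.1.1) := U.2.isLocalization_basicOpen _
    obtain ⟨z, hz⟩ := (hβ r).2 (res r (t k))
    obtain ⟨n, b, hnb⟩ := IsLocalization.Away.surj r.1.1 z
    letI : Algebra Γ(P, Pa.1) (A' r) := (res r).toAlgebra
    haveI := hloc r
    have h : algebraMap Γ(P, Pa.1) (A' r) (α r.1.1 ^ n * t k) = algebraMap Γ(P, Pa.1) (A' r) (α b) := by
      show res r (α r.1.1 ^ n * t k) = res r (α b)
      rw [map_mul, map_pow, hres, hres, ← hz, ← map_pow, ← map_mul]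
      refine congrArg _ ?_
      rw [mul_comm]; exact hnb
    obtain ⟨⟨_, m, rfl⟩, hm⟩ := IsLocalization.exists_of_eq (M := Submonoid.powers (α r.1.1)) h
    refine ⟨m + n, r.1.1 ^ m * b, ?_⟩
    rw [map_mul, map_pow, pow_add, mul_assoc]
    exact hm
  choose n b hnb using hden
  have hσ : ∀ r : s, ∃ σ : Γ(P, Pa.1) →+* Localization.Away r.1.1, σ.comp α.hom = algebraMap _ _ := fun r => by
    letI : Algebra Γ(X, U.1) Γ(X, X.basicOpen r.1.1) := (X.presheaf.map (homOfLE (X.basicOpen_le r.1.1)).op).hom.toAlgebra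
    haveI : IsLocalization.Away r.1.1 Γ(X, X.basicOpen r.1.1) := U.2.isLocalization_basicOpen _
    let ψ := IsLocalization.algEquiv (Submonoid.powers r.1.1) Γ(X, X.basicOpen r.1.1) (Localization.Away r.1.1)
    refine ⟨ψ.toRingEquiv.toRingHom.comp ((RingEquiv.ofBijective (β r) (hβ r)).symm.toRingHom.comp (res r)),
      RingHom.ext fun x => ?_⟩
    show ψ ((RingEquiv.ofBijective (β r) (hβ r)).symm (res r (α x))) = _
    rw [hres]
    erw [(RingEquiv.ofBijective (β r) (hβ r)).symm_apply_apply]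
    exact ψ.commutes x
  choose σ hσ using hσ
  refine ⟨{ ι := s, fin := inferInstance, g := fun r => r.1.1, c := c, M := M, hc := hc,
            N := fun r => Finset.univ.sup (n r),
            b := fun r k => r.1.1 ^ (Finset.univ.sup (n r) - n r k) * b r k,
            hb := fun r k => ?_, σ := σ, hσ := hσ }⟩
  rw [map_mul, map_pow]
  show _ = α r.1.1 ^ _ * α (b r k)
  rw [← hnb r k, ← mul_assoc, ← pow_add, Nat.sub_add_cancel (Finset.le_sup (f := n r) (Finset.mem_univ k))]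

end Groth.Agent.AdmOpen4
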