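import Groth.Agent.Lib.LimH13.IdealSys
import Groth.Agent.Lib.EffCartier.Mul
import Groth.Agent.Lib.EffCartier.FiniteType
import Groth.Prelude.Def_BlowUp2

/-!
# Extending ideals of finite type from an affine open
-/

set_option autoImplicit false
set_option backward.isDefEq.respectTransparency false
universe u

open CategoryTheory AlgebraicGeometry TopologicalSpace

namespace Groth.Agent.AdmOpen4

variable {X : Scheme.{u}}

theorem ι_appLE_bijective (D : X.Opens) (e : (⊤ : (D : Scheme.{u}).Opens) ≤ D.ι ⁻¹ᵁ D) :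
    Function.Bijective (D.ι.appLE D ⊤ e) := by
  have h : D.ι.appLE D ⊤ e = D.topIso.inv := by simp [Scheme.Opens.ι_appLE, Scheme.Opens.topIso_inv]; rfl
  rw [h]
  exact ConcreteCategory.bijective_of_isIso _

/-- An ideal sheaf is the unit ideal on an affine open missed by its support. -/
theorem ideal_eq_top_of_disjoint (I : X.IdealSheafData) (D : X.affineOpens)
    (h : Disjoint (I.support : Set X) (D.1 : Set X)) : I.ideal D = ⊤ := by
  haveI : IsAffine D.1.toScheme := D.2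
  have h1 : I.comap D.1.ι = ⊤ := EffCartier.comap_eq_top _ _ fun x hx => Set.disjoint_left.1 h hx x.2
  have h2 := EffCartier.comap_ideal I D.1.ι D ⟨⊤, isAffineOpen_top _⟩ (fun y _ => y.2)
  rw [h1, Scheme.IdealSheafData.ideal_top, Pi.top_apply] at h2
  rw [Ideal.eq_top_iff_one]
  obtain ⟨a, ha, ha'⟩ := (Ideal.mem_map_iff_of_surjective _ (ι_appLE_bijective D.1 _).2).1 (h2.le (Submodule.mem_top (x := 1)))
  rwa [(ι_appLE_bijective D.1 _).1 (ha'.trans (map_one _).symm)] at ha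

theorem exists_ifg_agree [CompactSpace X] [QuasiSeparatedSpace X] (I₀ : X.IdealSheafData) (s : Finset X.affineOpens)
    (hs : ∀ D ∈ s, (I₀.ideal D).FG) :
    ∃ I : X.IdealSheafData, BlowUp.IsFiniteTypeIdeal I ∧ I ≤ I₀ ∧ ∀ D ∈ s, I.ideal D = I₀.ideal D := by
  classical
  induction s using Finset.induction with
  | empty => exact ⟨⊥, LimH13.ifg_bot, bot_le, fun D h => absurd h (Finset.notMem_empty D)⟩
  | @insert D s hDs ih =>
    obtain ⟨I, hI, hle, heq⟩ := ih fun D' hD' => hs D' (Finset.mem_insert_of_mem hD')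
    obtain ⟨t, ht⟩ := hs D (Finset.mem_insert_self D s)
    have h : ∀ a : (t : Set Γ(X, D.1)), ∃ J : X.IdealSheafData, LimH13.IFG J ∧ J ≤ I₀ ∧ a.1 ∈ J.ideal D :=
      fun a => LimH13.exists_ifg_through I₀ D a.1 (ht ▸ Ideal.subset_span a.2)
    choose J hJ hJle hJa using h
    have hsup : BlowUp.IsFiniteTypeIdeal (⨆ a, J a) := fun U => by
      rw [Scheme.IdealSheafData.ideal_iSup, iSup_apply]
      exact Submodule.fg_iSup _ fun a => hJ a U
    refine ⟨I ⊔ ⨆ a, J a, EffCartier.isFiniteTypeIdeal_sup hI hsup, sup_le hle (iSup_le hJle), fun D' hD' => ?_⟩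
    have hge : ∀ D', (I ⊔ ⨆ a, J a).ideal D' ≤ I₀.ideal D' := fun D' => sup_le hle (iSup_le hJle) D'
    rcases Finset.mem_insert.1 hD' with rfl | hD'
    · refine le_antisymm (hge _) ?_
      rw [← ht, Submodule.span_le]
      intro a ha
      exact Scheme.IdealSheafData.ideal_mono le_sup_right _
        (Scheme.IdealSheafData.ideal_mono (le_iSup J ⟨a, ha⟩) _ (hJa ⟨a, ha⟩))
    · refine le_antisymm (hge _) ?_
      rw [← heq D' hD']
      exact Scheme.IdealSheafData.ideal_mono le_sup_left _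

/-- An ideal of finite type on an affine open, trivial on a quasi-compact open, extends. -/
theorem exists_extension [CompactSpace X] [QuasiSeparatedSpace X] (V : X.Opens) (hV : IsCompact (V : Set X))
    (U : X.affineOpens) (J : Ideal Γ(X, U.1)) (hJ : J.FG)
    (hd : Disjoint (X.zeroLocus (U := U.1) (J : Set Γ(X, U.1)) ∩ U.1) (V : Set X)) :
    ∃ I : X.IdealSheafData, BlowUp.IsAdmissibleFor V I ∧ I.ideal U = J := by
  haveI : IsAffine U.1.toScheme := U.2
  haveI : QuasiCompact U.1.ι := by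
    refine ⟨fun W hW hc => ?_⟩
    rw [U.1.ι.isOpenEmbedding.isEmbedding.isCompact_iff, Set.image_preimage_eq_inter_range, Scheme.Opens.range_ι]
    exact QuasiSeparatedSpace.inter_isCompact W (U.1 : Set X) hW hc U.1.2 U.2.isCompact
  let Js : U.1.toScheme.IdealSheafData := Scheme.IdealSheafData.ofIdealTop (J.map U.1.topIso.inv.hom)
  let I₀ := Js.map U.1.ι
  have hpre : U.1.ι ⁻¹ᵁ U.1 = ⊤ := Opens.ext (Set.eq_univ_of_forall fun y => y.2)
  have hJs : Js.ideal ⟨⊤, isAffineOpen_top _⟩ = J.map U.1.topIso.inv.hom := by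
    simp [Js]
    exact Ideal.map_id _
  have hI₀ : I₀.ideal U = J := by
    show (Js.map U.1.ι).ideal U = J
    rw [Scheme.IdealSheafData.ideal_map Js U.1.ι U (hpre ▸ isAffineOpen_top _)]
    have key : ∀ (W : U.1.toScheme.Opens) (hW : IsAffineOpen W) (h : W ≤ U.1.ι ⁻¹ᵁ U.1) (_ : W = ⊤),
        (Js.ideal ⟨W, hW⟩).comap (U.1.ι.appLE U.1 W h).hom = J := by
      intro W hW h he
      subst he
      rw [hJs, show U.1.ι.appLE U.1 ⊤ h = U.1.topIso.inv by simp [Scheme.Opens.ι_appLE, Scheme.Opens.topIso_inv]; rfl]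
      exact Ideal.comap_map_of_bijective _ (ConcreteCategory.bijective_of_isIso U.1.topIso.inv)
    have h := key _ (hpre ▸ isAffineOpen_top _) le_rfl hpre
    rwa [← Scheme.Hom.app_eq_appLE] at h
  have hsupp : ∀ x ∈ V, x ∉ (I₀.support : Set X) := by
    intro x hxV hx
    rw [Scheme.IdealSheafData.support_map, Closeds.coe_closure] at hx
    obtain ⟨y, hyV, z, hz, rfl⟩ := mem_closure_iff.1 hx _ V.2 hxV
    refine Set.disjoint_left.1 hd ⟨?_, z.2⟩ hyV
    have := ((Js.mem_support_iff_of_mem (U := ⟨⊤, isAffineOpen_top _⟩) trivial).1 hz)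
    rw [Scheme.mem_zeroLocus_iff] at this ⊢
    intro a ha hza
    refine this (U.1.topIso.inv a) (by rw [hJs]; exact Ideal.mem_map_of_mem _ ha) ?_
    have h2 : U.1.topIso.inv a = U.1.ι.appLE U.1 ⊤ (fun y _ => y.2) a := by
      rw [show U.1.ι.appLE U.1 ⊤ (fun y _ => y.2) = U.1.topIso.inv by
        simp [Scheme.Opens.ι_appLE, Scheme.Opens.topIso_inv]; rfl]
    rw [h2, Scheme.Hom.appLE]
    erw [CommRingCat.comp_apply, Scheme.basicOpen_res]
    exact ⟨trivial, (by rw [← Scheme.preimage_basicOpen]; exact hza)⟩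
  classical
  obtain ⟨s, hs, hscov⟩ : ∃ s : Finset X.affineOpens, (∀ D ∈ s, D.1 ≤ V) ∧ (V : Set X) ⊆ ⋃ D ∈ s, (D.1 : Set X) := by
    obtain ⟨s, hs⟩ := hV.elim_finite_subcover (fun D : {D : X.affineOpens // D.1 ≤ V} => (D.1.1 : Set X))
      (fun D => D.1.1.2) (fun x hx => by
        obtain ⟨_, ⟨W, hW, rfl⟩, hxW, hWV⟩ := X.isBasis_affineOpens.exists_subset_of_mem_open hx V.2
        exact Set.mem_iUnion.2 ⟨⟨⟨W, hW⟩, hWV⟩, hxW⟩)
    refine ⟨s.image Subtype.val, fun D hD => ?_, hs.trans fun x hx => ?_⟩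
    · obtain ⟨D', -, rfl⟩ := Finset.mem_image.1 hD; exact D'.2
    · obtain ⟨D, hD, hx⟩ := Set.mem_iUnion₂.1 hx
      exact Set.mem_iUnion₂.2 ⟨D.1, Finset.mem_image_of_mem _ hD, hx⟩
  have htop : ∀ D ∈ s, I₀.ideal D = ⊤ := fun D hD =>
    ideal_eq_top_of_disjoint I₀ D (Set.disjoint_left.2 fun x hx hxD => hsupp x (hs D hD hxD) hx)
  obtain ⟨I, hI, -, heq⟩ := exists_ifg_agree I₀ (insert U s) fun D hD => by
    rcases Finset.mem_insert.1 hD with rfl | hD
    · rw [hI₀]; exact hJ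
    · rw [htop D hD]; exact ⟨{1}, by simp⟩
  refine ⟨I, ⟨hI, Set.disjoint_left.2 fun x hx hxV => ?_⟩, (heq U (Finset.mem_insert_self _ _)).trans hI₀⟩
  obtain ⟨D, hD, hxD⟩ := Set.mem_iUnion₂.1 (hscov hxV)
  have h := (I.mem_support_iff_of_mem hxD).1 hx
  rw [heq D (Finset.mem_insert_of_mem hD), htop D hD, Scheme.mem_zeroLocus_iff] at h
  exact h 1 trivial (by rw [Scheme.basicOpen_of_isUnit _ isUnit_one]; exact hxD)

end Groth.Agent.AdmOpen4
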