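import Groth.Agent.Lib.LimH13.ModelGlue
import Mathlib.AlgebraicGeometry.Morphisms.Separated
import Mathlib.AlgebraicGeometry.Morphisms.FiniteType

/-!
# Gluing two separated schemes along an open immersed closed in their product
-/

set_option autoImplicit false
set_option backward.isDefEq.respectTransparency false
universe u

open CategoryTheory CategoryTheory.Limits AlgebraicGeometry TopologicalSpace

namespace Groth.Agent.AdmOpen4

variable {W Y T Q S : Scheme.{u}}

/-- The trace of a diagonal on a product of two opens. -/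
theorem preimage_range_diagonal (q : Q ⟶ S) (α : Y ⟶ Q) (β : T ⟶ Q) [IsOpenImmersion α] [IsOpenImmersion β]
    (fY : Y ⟶ S) (fT : T ⟶ S) (hα : α ≫ q = fY) (hβ : β ≫ q = fT)
    (e : W ⟶ Y) (e' : W ⟶ T) (hw : e ≫ α = e' ≫ β) (h : e ≫ fY = e' ≫ fT)
    (hcap : ∀ y t, α y = β t → ∃ w, e w = y ∧ e' w = t) :
    (pullback.map fY fT q q α β (𝟙 S) (by simp [hα]) (by simp [hβ])) ⁻¹' Set.range (pullback.diagonal q) =
      Set.range (pullback.lift e e' h) := by
  let m := pullback.map fY fT q q α β (𝟙 S) (by simp [hα]) (by simp [hβ])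
  have hdiag : pullback.lift e e' h ≫ m = (e ≫ α) ≫ pullback.diagonal q := by
    apply pullback.hom_ext
    · simp [m, pullback.lift_fst]
    · simp [m, pullback.lift_snd, hw]
  ext z
  constructor
  · rintro ⟨x, hx⟩
    have hx' : pullback.diagonal q x = m z := hx
    have h1 : α (pullback.fst fY fT z) = x := by
      have := congrArg (pullback.fst q q) hx'
      rw [← Scheme.Hom.comp_apply, ← Scheme.Hom.comp_apply, pullback.diagonal_fst] at this
      rw [← Scheme.Hom.comp_apply]
      refine Eq.trans ?_ this.symm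
      simp [m]
    have h2 : β (pullback.snd fY fT z) = x := by
      have := congrArg (pullback.snd q q) hx'
      rw [← Scheme.Hom.comp_apply, ← Scheme.Hom.comp_apply, pullback.diagonal_snd] at this
      rw [← Scheme.Hom.comp_apply]
      refine Eq.trans ?_ this.symm
      simp [m]
    obtain ⟨w, hw1, -⟩ := hcap _ _ (h1.trans h2.symm)
    refine ⟨w, m.isOpenEmbedding.injective ?_⟩
    rw [← Scheme.Hom.comp_apply, hdiag, Scheme.Hom.comp_apply, Scheme.Hom.comp_apply, hw1, h1, hx']
  · rintro ⟨w, rfl⟩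
    exact ⟨(e ≫ α) w, by rw [← Scheme.Hom.comp_apply, ← hdiag]; rfl⟩

/-- Two separated schemes glued along an open which is closed in their product form a separated scheme. -/
theorem isSeparated_pushout (i : W ⟶ Y) (j : W ⟶ T) [IsOpenImmersion i] [IsOpenImmersion j]
    (fY : Y ⟶ S) (fT : T ⟶ S) [IsSeparated fY] [IsSeparated fT] (h : i ≫ fY = j ≫ fT)
    [IsClosedImmersion (pullback.lift i j h)] : IsSeparated (pushout.desc fY fT h) := by
  let q := pushout.desc fY fT h
  have hl : pushout.inl i j ≫ q = fY := pushout.inl_desc _ _ _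
  have hr : pushout.inr i j ≫ q = fT := pushout.inr_desc _ _ _
  suffices hc : IsClosed (Set.range (pullback.diagonal q)) from ⟨IsClosedImmersion.of_isPreimmersion _ hc⟩
  have hclYY : IsClosed (Set.range (pullback.lift (𝟙 Y) (𝟙 Y) (rfl : 𝟙 Y ≫ fY = 𝟙 Y ≫ fY))) :=
    (pullback.diagonal fY).isClosedEmbedding.isClosed_range
  have hclTT : IsClosed (Set.range (pullback.lift (𝟙 T) (𝟙 T) (rfl : 𝟙 T ≫ fT = 𝟙 T ≫ fT))) :=
    (pullback.diagonal fT).isClosedEmbedding.isClosed_range
  have hclYT : IsClosed (Set.range (pullback.lift i j h)) := (pullback.lift i j h).isClosedEmbedding.isClosed_range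
  have hclTY : IsClosed (Set.range (pullback.lift j i h.symm)) := by
    have : pullback.lift j i h.symm = pullback.lift i j h ≫ (pullbackSymmetry fY fT).hom := by
      apply pullback.hom_ext <;> simp
    rw [this, Scheme.Hom.comp_base, TopCat.coe_comp, Set.range_comp]
    exact (pullbackSymmetry fY fT).hom.homeomorph.isClosedMap _ hclYT
  have hpYY := preimage_range_diagonal q (pushout.inl i j) (pushout.inl i j) fY fY hl hl (𝟙 Y) (𝟙 Y) rfl rfl
    (fun y y' he => ⟨y, rfl, (pushout.inl i j).isOpenEmbedding.injective he⟩)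
  have hpTT := preimage_range_diagonal q (pushout.inr i j) (pushout.inr i j) fT fT hr hr (𝟙 T) (𝟙 T) rfl rfl
    (fun y y' he => ⟨y, rfl, (pushout.inr i j).isOpenEmbedding.injective he⟩)
  have hpYT := preimage_range_diagonal q (pushout.inl i j) (pushout.inr i j) fY fT hl hr i j pushout.condition h
    (fun y t he => LimH13.exists_of_inl_eq_inr i j he)
  have hpTY := preimage_range_diagonal q (pushout.inr i j) (pushout.inl i j) fT fY hr hl j i pushout.condition.symm h.symm
    (fun t y he => by obtain ⟨w, h1, h2⟩ := LimH13.exists_of_inl_eq_inr i j he.symm; exact ⟨w, h2, h1⟩)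
  rw [← isOpen_compl_iff, isOpen_iff_forall_mem_open]
  intro z hz
  have key : ∀ {A B : Scheme.{u}} (α : A ⟶ (pushout i j :)) (β : B ⟶ (pushout i j :)) [IsOpenImmersion α] [IsOpenImmersion β]
      (fA : A ⟶ S) (fB : B ⟶ S) (hA : α ≫ q = fA) (hB : β ≫ q = fB),
      IsClosed ((pullback.map fA fB q q α β (𝟙 S) (by simp [hA]) (by simp [hB])) ⁻¹' Set.range (pullback.diagonal q)) →
      pullback.fst q q z ∈ α.opensRange → pullback.snd q q z ∈ β.opensRange →
      ∃ O ⊆ (Set.range (pullback.diagonal q))ᶜ, IsOpen O ∧ z ∈ O := by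
    intro A B α β _ _ fA fB hA hB hcl hza hzb
    let m := pullback.map fA fB q q α β (𝟙 S) (by simp [hA]) (by simp [hB])
    refine ⟨m '' (m ⁻¹' Set.range (pullback.diagonal q))ᶜ, ?_, m.isOpenEmbedding.isOpenMap _ hcl.isOpen_compl, ?_⟩
    · rintro _ ⟨w, hw, rfl⟩
      exact hw
    · have hzm : z ∈ Set.range m := by
        rw [Scheme.Pullback.range_map]
        exact ⟨hza, hzb⟩
      obtain ⟨w, rfl⟩ := hzm
      exact ⟨w, hz, rfl⟩
  have htop := LimH13.range_inl_sup_range_inr i j
  rcases (htop.ge (show pullback.fst q q z ∈ ⊤ from trivial)) with ha | ha <;>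
    rcases (htop.ge (show pullback.snd q q z ∈ ⊤ from trivial)) with hb | hb
  · exact key _ _ fY fY hl hl (hpYY ▸ hclYY) ha hb
  · exact key _ _ fY fT hl hr (hpYT ▸ hclYT) ha hb
  · exact key _ _ fT fY hr hl (hpTY ▸ hclTY) ha hb
  · exact key _ _ fT fT hr hr (hpTT ▸ hclTT) ha hb

theorem quasiCompact_pushout [QuasiSeparatedSpace S] (i : W ⟶ Y) (j : W ⟶ T) [IsOpenImmersion i] [IsOpenImmersion j]
    [CompactSpace Y] [CompactSpace T]
    (fY : Y ⟶ S) (fT : T ⟶ S) (h : i ≫ fY = j ≫ fT) : QuasiCompact (pushout.desc fY fT h) := by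
  haveI := LimH13.compactSpace_pushout i j
  infer_instance

theorem locallyOfFiniteType_pushout (i : W ⟶ Y) (j : W ⟶ T) [IsOpenImmersion i] [IsOpenImmersion j]
    (fY : Y ⟶ S) (fT : T ⟶ S) [LocallyOfFiniteType fY] [LocallyOfFiniteType fT] (h : i ≫ fY = j ≫ fT) :
    LocallyOfFiniteType (pushout.desc fY fT h) := by
  refine (IsZariskiLocalAtSource.iff_of_iSup_eq_top (P := @LocallyOfFiniteType)
    (fun b : Bool => cond b (pushout.inl i j).opensRange (pushout.inr i j).opensRange) ?_).mpr fun b => ?_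
  · rw [iSup_bool_eq]
    exact LimH13.range_inl_sup_range_inr i j
  · cases b
    · change LocallyOfFiniteType ((pushout.inr i j).opensRange.ι ≫ _)
      rw [show (pushout.inr i j).opensRange.ι ≫ pushout.desc fY fT h = (pushout.inr i j).isoOpensRange.inv ≫ fT by
        rw [← cancel_epi (pushout.inr i j).isoOpensRange.hom, Scheme.Hom.isoOpensRange_hom_ι_assoc,
          Iso.hom_inv_id_assoc, pushout.inr_desc]]
      infer_instance
    · change LocallyOfFiniteType ((pushout.inl i j).opensRange.ι ≫ _)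
      rw [show (pushout.inl i j).opensRange.ι ≫ pushout.desc fY fT h = (pushout.inl i j).isoOpensRange.inv ≫ fY by
        rw [← cancel_epi (pushout.inl i j).isoOpensRange.hom, Scheme.Hom.isoOpensRange_hom_ι_assoc,
          Iso.hom_inv_id_assoc, pushout.inl_desc]]
      infer_instance

end Groth.Agent.AdmOpen4
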