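import Groth.Agent.Lib.AdmOpen4.TwoSided
import Groth.Agent.Lib.AdmOpen4.Glue

/-!
# Closed graphs of the two blow-ups in a glued target
-/

set_option autoImplicit false
set_option backward.isDefEq.respectTransparency false
universe u

open CategoryTheory CategoryTheory.Limits AlgebraicGeometry TopologicalSpace

namespace Groth.Agent.AdmOpen4

variable {S : Scheme.{u}}

theorem isClosedImmersion_cross {X₁ X₂ G Z T : Scheme.{u}} (g₁ : X₁ ⟶ S) (g₂ : X₂ ⟶ S) [IsSeparated g₁]
    (e : G ⟶ pullback g₁ g₂) [IsClosedImmersion e] (c : T ⟶ X₂) [IsSeparated c] (b : Z ⟶ G) (o : Z ⟶ T)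
    (w : b ≫ e ≫ pullback.snd g₁ g₂ = o ≫ c)
    [IsClosedImmersion (pullback.lift b o w)] (r : Z ⟶ X₁) (hr : r = b ≫ e ≫ pullback.fst g₁ g₂)
    (h : o ≫ c ≫ g₂ = r ≫ g₁) :
    IsClosedImmersion (pullback.lift (f := c ≫ g₂) (g := g₁) o r h) := by
  let P := pullback (c ≫ g₂) g₁
  let k : P ⟶ pullback g₁ g₂ := pullback.lift (pullback.snd (c ≫ g₂) g₁) (pullback.fst (c ≫ g₂) g₁ ≫ c)
    (by rw [Category.assoc, pullback.condition])
  have hk1 : k ≫ pullback.fst g₁ g₂ = pullback.snd (c ≫ g₂) g₁ := pullback.lift_fst _ _ _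
  have hk2 : k ≫ pullback.snd g₁ g₂ = pullback.fst (c ≫ g₂) g₁ ≫ c := pullback.lift_snd _ _ _
  haveI : IsSeparated k := by
    haveI : IsSeparated (k ≫ pullback.snd g₁ g₂) := by rw [hk2]; infer_instance
    exact IsSeparated.of_comp k (pullback.snd g₁ g₂)
  let L := pullback.lift (f := c ≫ g₂) (g := g₁) o r h
  have hL1 : L ≫ pullback.fst (c ≫ g₂) g₁ = o := pullback.lift_fst _ _ _
  have hL2 : L ≫ pullback.snd (c ≫ g₂) g₁ = r := pullback.lift_snd _ _ _
  let M : Z ⟶ pullback e k := pullback.lift b L (by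
    apply pullback.hom_ext
    · rw [Category.assoc, Category.assoc, hk1, hL2, hr]
    · rw [Category.assoc, Category.assoc, hk2, reassoc_of% hL1, w])
  have hM1 : M ≫ pullback.fst e k = b := pullback.lift_fst _ _ _
  have hM2 : M ≫ pullback.snd e k = L := pullback.lift_snd _ _ _
  let N : pullback e k ⟶ pullback (e ≫ pullback.snd g₁ g₂) c :=
    pullback.lift (pullback.fst e k) (pullback.snd e k ≫ pullback.fst (c ≫ g₂) g₁) (by
      rw [pullback.condition_assoc, hk2, Category.assoc])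
  have hN1 : N ≫ pullback.fst (e ≫ pullback.snd g₁ g₂) c = pullback.fst e k := pullback.lift_fst _ _ _
  have hN2 : N ≫ pullback.snd (e ≫ pullback.snd g₁ g₂) c = pullback.snd e k ≫ pullback.fst (c ≫ g₂) g₁ :=
    pullback.lift_snd _ _ _
  haveI : IsClosedImmersion (M ≫ N) := by
    have : M ≫ N = pullback.lift b o w := by
      apply pullback.hom_ext
      · rw [Category.assoc, hN1, hM1, pullback.lift_fst]
      · rw [Category.assoc, hN2, reassoc_of% hM2, hL1, pullback.lift_snd]
    rw [this]; infer_instance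
  haveI : IsSeparated N := by
    haveI : IsSeparated (N ≫ pullback.fst (e ≫ pullback.snd g₁ g₂) c) := by rw [hN1]; infer_instance
    exact IsSeparated.of_comp N (pullback.fst (e ≫ pullback.snd g₁ g₂) c)
  haveI : IsClosedImmersion M := IsClosedImmersion.of_comp M N
  show IsClosedImmersion L
  rw [← hM2]
  infer_instance

/-- The graph of a morphism on one piece of a glued scheme is closed if its trace on the other piece is. -/
theorem isClosed_graph_piece {W Y T Q A : Scheme.{u}} (q : Q ⟶ S) (α : Y ⟶ Q) (β : T ⟶ Q)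
    [IsOpenImmersion α] [IsOpenImmersion β] (hcov : ∀ x : Q, x ∈ α.opensRange ∨ x ∈ β.opensRange)
    (i : W ⟶ Y) (j : W ⟶ T) (hij : i ≫ α = j ≫ β) (hcap : ∀ y t, α y = β t → ∃ w, i w = y ∧ j w = t)
    (fY : Y ⟶ S) (fT : T ⟶ S) (hα : α ≫ q = fY) (hβ : β ≫ q = fT) (gA : A ⟶ S) [IsSeparated gA]
    (c : Y ⟶ A) (hc : c ≫ gA = fY)
    (r : W ⟶ A) (hr : r = i ≫ c) (hjr : j ≫ fT = r ≫ gA) (hcl : IsClosed (Set.range (pullback.lift j r hjr)))
    (hw : α ≫ q = c ≫ gA) :
    IsClosed (Set.range (pullback.lift (f := q) (g := gA) α c hw)) := by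
  let L := pullback.lift (f := q) (g := gA) α c hw
  have hL1 : L ≫ pullback.fst q gA = α := pullback.lift_fst _ _ _
  have hL2 : L ≫ pullback.snd q gA = c := pullback.lift_snd _ _ _
  rw [← isOpen_compl_iff, isOpen_iff_forall_mem_open]
  intro z hz
  have hrange : ∀ {B : Scheme.{u}} (α : B ⟶ Q) [IsOpenImmersion α] (fB : B ⟶ S) (hB : α ≫ q = fB),
      IsClosed ((pullback.map fB gA q gA α (𝟙 A) (𝟙 S) (by simp [hB]) (by simp)) ⁻¹' Set.range L) →
      pullback.fst q gA z ∈ α.opensRange → ∃ O ⊆ (Set.range L)ᶜ, IsOpen O ∧ z ∈ O := by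
    intro B α _ fB hB hclB hza
    let m := pullback.map fB gA q gA α (𝟙 A) (𝟙 S) (by simp [hB]) (by simp)
    refine ⟨m '' (m ⁻¹' Set.range L)ᶜ, ?_, m.isOpenEmbedding.isOpenMap _ hclB.isOpen_compl, ?_⟩
    · rintro _ ⟨w, hw', rfl⟩
      exact hw'
    · have hzm : z ∈ Set.range m := by
        rw [Scheme.Pullback.range_map]
        exact ⟨hza, by simp⟩
      obtain ⟨w, rfl⟩ := hzm
      exact ⟨w, hz, rfl⟩
  rcases hcov (pullback.fst q gA z) with ha | ha
  · refine hrange α fY hα ?_ ha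
    let m := pullback.map fY gA q gA (α) (𝟙 A) (𝟙 S) (by simp [hα, hβ]) (by simp)
    let Γ := pullback.lift (f := fY) (g := gA) (𝟙 Y) c (by simp [hc])
    haveI : IsClosedImmersion (Γ ≫ pullback.fst fY gA) := by rw [pullback.lift_fst]; infer_instance
    haveI : IsClosedImmersion Γ := IsClosedImmersion.of_comp Γ (pullback.fst fY gA)
    have hΓ : Γ ≫ m = L := by
      apply pullback.hom_ext
      · rw [Category.assoc, pullback.lift_fst, pullback.lift_fst_assoc, Category.id_comp, hL1]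
      · rw [Category.assoc, pullback.lift_snd, pullback.lift_snd_assoc, Category.comp_id, hL2]
    have : m ⁻¹' Set.range L = Set.range Γ := by
      rw [← hΓ, Scheme.Hom.comp_base, TopCat.coe_comp, Set.range_comp]
      exact Set.preimage_image_eq _ m.isOpenEmbedding.injective
    rw [this]
    exact Γ.isClosedEmbedding.isClosed_range
  · refine hrange β fT hβ ?_ ha
    let m := pullback.map fT gA q gA (β) (𝟙 A) (𝟙 S) (by simp [hα, hβ]) (by simp)
    have hm1 : m ≫ pullback.fst q gA = pullback.fst fT gA ≫ β := pullback.lift_fst _ _ _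
    have hm2 : m ≫ pullback.snd q gA = pullback.snd fT gA := (pullback.lift_snd _ _ _).trans (Category.comp_id _)
    have hR : pullback.lift j r hjr ≫ m = i ≫ L := by
      apply pullback.hom_ext
      · rw [Category.assoc, hm1, pullback.lift_fst_assoc, Category.assoc, hL1, hij]
      · rw [Category.assoc, hm2, pullback.lift_snd, Category.assoc, hL2, hr]
    have : m ⁻¹' Set.range L = Set.range (pullback.lift j r hjr) := by
      ext x
      constructor
      · rintro ⟨y, hy⟩
        have h1 : α y = β (pullback.fst fT gA x) := by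
          rw [← hL1, Scheme.Hom.comp_apply, hy, ← Scheme.Hom.comp_apply, ← Scheme.Hom.comp_apply, hm1]
        obtain ⟨w, hw1, -⟩ := hcap _ _ h1
        refine ⟨w, m.isOpenEmbedding.injective ?_⟩
        rw [← Scheme.Hom.comp_apply, hR, Scheme.Hom.comp_apply, hw1, hy]
      · rintro ⟨w, rfl⟩
        exact ⟨i w, by rw [← Scheme.Hom.comp_apply, ← hR]; rfl⟩
    rw [this]
    exact hcl

/-- The restriction of a closed graph to a closed subscheme of the ambient. -/
theorem isClosed_graph_restrict {Q Q' A : Scheme.{u}} (q : Q ⟶ S) (gA : A ⟶ S) (m : Q' ⟶ Q) (W : Q.Opens)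
    (p : (W : Scheme.{u}) ⟶ A) (hp : W.ι ≫ q = p ≫ gA) (hcl : IsClosed (Set.range (pullback.lift W.ι p hp)))
    (hp' : (m ⁻¹ᵁ W).ι ≫ m ≫ q = ((m ∣_ W) ≫ p) ≫ gA) :
    IsClosed (Set.range (pullback.lift (f := m ≫ q) (g := gA) (m ⁻¹ᵁ W).ι ((m ∣_ W) ≫ p) hp')) := by
  let Γ := pullback.lift W.ι p hp
  let Γ' := pullback.lift (f := m ≫ q) (g := gA) (m ⁻¹ᵁ W).ι ((m ∣_ W) ≫ p) hp'
  haveI : IsImmersion (Γ ≫ pullback.fst q gA) := by rw [pullback.lift_fst]; infer_instance
  haveI : IsImmersion Γ := IsImmersion.of_comp Γ (pullback.fst q gA)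
  haveI : IsClosedImmersion Γ := IsClosedImmersion.of_isPreimmersion _ hcl
  let Ψ : pullback (m ≫ q) gA ⟶ pullback q gA :=
    pullback.lift (pullback.fst (m ≫ q) gA ≫ m) (pullback.snd (m ≫ q) gA) (by rw [Category.assoc, pullback.condition])
  have hΨ1 : Ψ ≫ pullback.fst q gA = pullback.fst (m ≫ q) gA ≫ m := pullback.lift_fst _ _ _
  have hΨ2 : Ψ ≫ pullback.snd q gA = pullback.snd (m ≫ q) gA := pullback.lift_snd _ _ _
  have hbot : IsPullback (pullback.fst (m ≫ q) gA) Ψ m (pullback.fst q gA) :=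
    IsPullback.of_bot (v₂₁ := pullback.snd q gA) (v₂₂ := q) (h₃₁ := gA)
      (by rw [hΨ2]; exact IsPullback.of_hasPullback (m ≫ q) gA)
      hΨ1.symm (IsPullback.of_hasPullback q gA)
  have htop : IsPullback Γ' (m ∣_ W) Ψ Γ := by
    refine IsPullback.of_right (h₁₂ := pullback.fst (m ≫ q) gA) (h₂₂ := pullback.fst q gA) (v₁₃ := m) ?_ ?_ hbot
    · rw [pullback.lift_fst, pullback.lift_fst]
      exact (isPullback_morphismRestrict m W).flip
    · apply pullback.hom_ext
      · rw [Category.assoc, hΨ1, pullback.lift_fst_assoc, Category.assoc, pullback.lift_fst, morphismRestrict_ι]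
      · rw [Category.assoc, hΨ2, pullback.lift_snd, Category.assoc, pullback.lift_snd]
  haveI : IsClosedImmersion Γ' := MorphismProperty.of_isPullback htop.flip ‹IsClosedImmersion Γ›
  exact Γ'.isClosedEmbedding.isClosed_range

end Groth.Agent.AdmOpen4
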