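import Groth.Agent.Lib.AdmOpen4.Main
import Groth.Prelude.Def_Coh

/-!
# Sections killed by powers of an ideal; strict transforms inside a pullback
-/

set_option autoImplicit false
set_option backward.isDefEq.respectTransparency false
universe u

open CategoryTheory CategoryTheory.Limits AlgebraicGeometry TopologicalSpace

namespace Groth.Agent.AdmOpen4

variable {X : Scheme.{u}}

/-- The kernel of the inclusion of the complement of the support consists of the sections killed by powers. -/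
theorem mem_ker_iff_killedByPower (E : X.IdealSheafData) (hE : BlowUp.IsFiniteTypeIdeal E)
    [QuasiCompact (EffCartier.cmpl E).ι] (W : X.affineOpens) (a : Γ(X, W.1)) :
    a ∈ (EffCartier.cmpl E).ι.ker.ideal W ↔ BlowUp.KilledByPowerNear E (Coh.structureModule X) W a := by
  have hmem : ∀ x ∈ W.1, x ∈ EffCartier.cmpl E ↔ ∃ e ∈ E.ideal W, x ∈ X.basicOpen e := fun x hx => by
    show x ∉ (E.support : Set X) ↔ _
    rw [SetLike.mem_coe, Scheme.IdealSheafData.mem_support_iff_of_mem hx, Scheme.mem_zeroLocus_iff]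
    simp only [not_forall, not_not, exists_prop, SetLike.mem_coe]
  have hle : (EffCartier.cmpl E).ι ''ᵁ (EffCartier.cmpl E).ι ⁻¹ᵁ W.1 ≤ W.1 := by
    rintro _ ⟨z, hz, rfl⟩; exact hz
  rw [Scheme.Hom.ker_apply, RingHom.mem_ker, Scheme.Opens.ι_app]
  constructor
  · intro h
    have key : E.ideal W ≤ ((⊥ : Submodule Γ(X, W.1) Γ(X, W.1)).colon {a}).radical := by
      intro e he
      have hsub : X.basicOpen e ≤ (EffCartier.cmpl E).ι ''ᵁ (EffCartier.cmpl E).ι ⁻¹ᵁ W.1 := fun x hx =>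
        ⟨⟨x, (hmem x (X.basicOpen_le e hx)).2 ⟨e, he, hx⟩⟩, X.basicOpen_le e hx, rfl⟩
      obtain ⟨n, hn⟩ := exists_pow_mul_eq_zero_of_res_basicOpen_eq_zero_of_isCompact X W.2.isCompact a e (by
        show X.presheaf.map _ a = 0
        have h2 := congrArg (X.presheaf.map (homOfLE hsub).op) h
        rw [map_zero] at h2
        rw [← h2]
        erw [← CommRingCat.comp_apply, ← Functor.map_comp]
        rfl)
      exact ⟨n, by simpa [Submodule.mem_colon_singleton] using hn⟩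
    obtain ⟨N, hN⟩ := Ideal.exists_pow_le_of_le_radical_of_fg key (hE W)
    refine ⟨N, fun b hb => ?_⟩
    rw [Scheme.IdealSheafData.ideal_pow, Pi.pow_apply] at hb
    have h2 := hN hb
    rw [Submodule.mem_colon_singleton, Submodule.mem_bot] at h2
    exact h2
  · rintro ⟨N, hN⟩
    refine TopCat.Presheaf.section_ext X.sheaf _ _ _ fun x hx => ?_
    rw [map_zero]
    erw [TopCat.Presheaf.germ_res_apply]
    obtain ⟨z, hz, rfl⟩ := hx
    obtain ⟨e, he, hze⟩ := (hmem _ hz).1 z.2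
    have h1 : e ^ N * a = 0 :=
      hN (e ^ N) (by rw [Scheme.IdealSheafData.ideal_pow, Pi.pow_apply]; exact Ideal.pow_mem_pow he N)
    have h2 := congrArg (X.presheaf.germ W.1 _ hz) h1
    rw [map_mul, map_pow, map_zero] at h2
    replace hze := (X.mem_basicOpen e _ hz).1 hze
    exact (hze.pow N).mul_left_cancel (h2.trans (mul_zero _).symm)

theorem isStrict_of_isPullback {P X' Q : Scheme.{u}} {p : P ⟶ X} {g : X' ⟶ X} {p₁ : Q ⟶ P} {p₂ : Q ⟶ X'}
    (hpb : IsPullback p₁ p₂ p g) (V : X.Opens) [QuasiCompact (p₂ ⁻¹ᵁ (g ⁻¹ᵁ V)).ι] :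
    IsStrict p g V ((p₂ ⁻¹ᵁ (g ⁻¹ᵁ V)).ι.imageι ≫ p₁) ((p₂ ⁻¹ᵁ (g ⁻¹ᵁ V)).ι.imageι ≫ p₂) := by
  let O := p₂ ⁻¹ᵁ (g ⁻¹ᵁ V)
  refine ⟨by simp only [Category.assoc, hpb.w], ?_, ?_, fun Z u v h hz => ?_⟩
  · have : pullback.lift (O.ι.imageι ≫ p₁) (O.ι.imageι ≫ p₂) (by simp only [Category.assoc, hpb.w]) =
        O.ι.imageι ≫ hpb.isoPullback.hom := pullback.hom_ext (by simp) (by simp)
    rw [this]; infer_instance
  · haveI := EffCartier.dominant_toImage O.ι
    refine EffCartier.dominant_of_range_le O.ι.toImage _ fun x => ?_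
    show g ((O.ι.imageι ≫ p₂) (O.ι.toImage x)) ∈ V
    rw [← Scheme.Hom.comp_apply (O.ι.toImage), Scheme.Hom.toImage_imageι_assoc]
    exact x.2
  · have hr : Set.range (hpb.lift u v h) ⊆ Set.range O.ι := by
      rintro _ ⟨z, rfl⟩
      rw [Scheme.Opens.range_ι]
      show g ((hpb.lift u v h ≫ p₂) z) ∈ V
      rw [hpb.lift_snd]
      exact hz z
    refine ⟨IsOpenImmersion.lift O.ι (hpb.lift u v h) hr ≫ O.ι.toImage, ?_, ?_⟩
    · rw [Category.assoc, Scheme.Hom.toImage_imageι_assoc, IsOpenImmersion.lift_fac_assoc, hpb.lift_fst]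
    · rw [Category.assoc, Scheme.Hom.toImage_imageι_assoc, IsOpenImmersion.lift_fac_assoc, hpb.lift_snd]

end Groth.Agent.AdmOpen4
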