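import Groth.Agent.Lib.AdmOpen4.Piece
import Groth.Agent.Lib.BlowUpExist.Proper
import Groth.Agent.Lib.HMNum19.Unique

/-!
# Strict transforms of morphisms which are open immersions over an open become open immersions
-/

set_option autoImplicit false
set_option backward.isDefEq.respectTransparency false
universe u

open CategoryTheory CategoryTheory.Limits AlgebraicGeometry TopologicalSpace

namespace Groth.Agent.AdmOpen4

variable {P X X' T : Scheme.{u}}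

theorem isSeparated_s {p : P ⟶ X} [IsSeparated p] {g : X' ⟶ X} {V : X.Opens} {a : T ⟶ P} {s : T ⟶ X'}
    (hS : IsStrict p g V a s) : IsSeparated s := by
  haveI := hS.closed
  rw [← pullback.lift_snd a s hS.w]
  infer_instance

theorem isProper_s {p : P ⟶ X} [IsProper p] {g : X' ⟶ X} {V : X.Opens} {a : T ⟶ P} {s : T ⟶ X'}
    (hS : IsStrict p g V a s) : IsProper s := by
  haveI := hS.closed
  rw [← pullback.lift_snd a s hS.w]
  infer_instance

/-- A piecewise open immersion which is a monomorphism over a dense open and separated is injective. -/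
theorem injective_of_local {s : T ⟶ X'} [IsSeparated s] {E' : X'.IdealSheafData} (hE' : BlowUp.IsEffCartierIdeal E')
    (hmono : Mono ((s ⁻¹ᵁ EffCartier.cmpl E').ι ≫ s))
    (hloc : ∀ t : T, ∃ O : T.Opens, t ∈ O ∧ IsOpenImmersion (O.ι ≫ s)) : Function.Injective s := by
  intro t₁ t₂ ht
  obtain ⟨O₁, h₁, i₁⟩ := hloc t₁
  obtain ⟨O₂, h₂, i₂⟩ := hloc t₂
  let O : X'.Opens := (O₁.ι ≫ s).opensRange ⊓ (O₂.ι ≫ s).opensRange
  have hO : s t₁ ∈ O := ⟨⟨⟨t₁, h₁⟩, rfl⟩, ⟨⟨t₂, h₂⟩, ht.symm⟩⟩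
  have hr₁ : Set.range O.ι ⊆ Set.range (O₁.ι ≫ s) := by
    rw [Scheme.Opens.range_ι]; exact fun x hx => hx.1
  have hr₂ : Set.range O.ι ⊆ Set.range (O₂.ι ≫ s) := by
    rw [Scheme.Opens.range_ι]; exact fun x hx => hx.2
  let σ₁ : (O : Scheme.{u}) ⟶ T := IsOpenImmersion.lift (O₁.ι ≫ s) O.ι hr₁ ≫ O₁.ι
  let σ₂ : (O : Scheme.{u}) ⟶ T := IsOpenImmersion.lift (O₂.ι ≫ s) O.ι hr₂ ≫ O₂.ι
  have hσ₁ : σ₁ ≫ s = O.ι := by rw [Category.assoc, IsOpenImmersion.lift_fac]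
  have hσ₂ : σ₂ ≫ s = O.ι := by rw [Category.assoc, IsOpenImmersion.lift_fac]
  have e₁ : σ₁ ⟨s t₁, hO⟩ = t₁ := by
    have : IsOpenImmersion.lift (O₁.ι ≫ s) O.ι hr₁ ⟨s t₁, hO⟩ = ⟨t₁, h₁⟩ := (O₁.ι ≫ s).isOpenEmbedding.injective (by
      rw [← Scheme.Hom.comp_apply, IsOpenImmersion.lift_fac]; rfl)
    show O₁.ι _ = t₁
    erw [this]; rfl
  have e₂ : σ₂ ⟨s t₁, hO⟩ = t₂ := by
    have : IsOpenImmersion.lift (O₂.ι ≫ s) O.ι hr₂ ⟨s t₁, hO⟩ = ⟨t₂, h₂⟩ := (O₂.ι ≫ s).isOpenEmbedding.injective (by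
      rw [← Scheme.Hom.comp_apply, IsOpenImmersion.lift_fac]; exact ht)
    show O₂.ι _ = t₂
    erw [this]; rfl
  clear_value σ₁ σ₂
  let O' : (O : Scheme.{u}).Opens := O.ι ⁻¹ᵁ EffCartier.cmpl E'
  haveI : IsSchemeTheoreticallyDominant O'.ι := by
    have := BlowUpExist.isEffCartierIdeal_comap_of_isOpenImmersion hE' O.ι
    have h := EffCartier.dominant_cmpl this
    rwa [← BlowUp26.preimage_cmpl_eq] at h
  have hσ : σ₁ = σ₂ := by
    have hagree : O'.ι ≫ σ₁ = O'.ι ≫ σ₂ := by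
      have hr : ∀ σ : (O : Scheme.{u}) ⟶ T, σ ≫ s = O.ι → Set.range (O'.ι ≫ σ) ⊆ Set.range (s ⁻¹ᵁ EffCartier.cmpl E').ι := by
        intro σ hσ
        rintro _ ⟨z, rfl⟩
        rw [Scheme.Opens.range_ι]
        show s ((O'.ι ≫ σ) z) ∈ EffCartier.cmpl E'
        rw [← Scheme.Hom.comp_apply, Category.assoc, hσ]
        exact z.2
      rw [← IsOpenImmersion.lift_fac _ _ (hr σ₁ hσ₁), ← IsOpenImmersion.lift_fac _ _ (hr σ₂ hσ₂)]
      refine congrArg (· ≫ _) ((cancel_mono ((s ⁻¹ᵁ EffCartier.cmpl E').ι ≫ s)).1 ?_)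
      rw [IsOpenImmersion.lift_fac_assoc, IsOpenImmersion.lift_fac_assoc, Category.assoc, Category.assoc, hσ₁, hσ₂]
    haveI : IsSeparated (Over.mk s).hom := ‹IsSeparated s›
    let Y : Over X' := Over.mk O.ι
    let W : Over X' := Over.mk (O'.ι ≫ O.ι)
    let j : W ⟶ Y := Over.homMk O'.ι rfl
    haveI : IsSchemeTheoreticallyDominant j.left := ‹_›
    exact congrArg (fun φ : Y ⟶ Over.mk s => φ.left) (HMNum19.ext_of_isSchemeTheoreticallyDominant j
      (f := (Over.homMk σ₁ hσ₁ : Y ⟶ Over.mk s)) (g := (Over.homMk σ₂ hσ₂ : Y ⟶ Over.mk s)) (Over.OverMorphism.ext hagree))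
  rw [← e₁, ← e₂, hσ]

/-- MAIN: after a `V`-admissible modification the strict transform is an open immersion. -/
theorem exists_center [CompactSpace X] [QuasiSeparatedSpace X] (p : P ⟶ X) [IsSeparated p] [QuasiCompact p]
    [LocallyOfFiniteType p] (V : X.Opens) (hV : IsCompact (V : Set X)) [IsOpenImmersion (p ∣_ V)] :
    ∃ 𝓘 : X.IdealSheafData, BlowUp.IsAdmissibleFor V 𝓘 ∧ (𝓘.support : Set X) = (V : Set X)ᶜ ∧
      ∀ {X' T : Scheme.{u}} (g : X' ⟶ X) (a : T ⟶ P) (s : T ⟶ X'), IsStrict p g V a s →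
        BlowUp.IsEffCartierIdeal (𝓘.comap g) → IsOpenImmersion s := by
  classical
  obtain ⟨E, hE, hEV⟩ := AdmBlowUp4.exists_ideal_support_eq X V hV
  have hEa : BlowUp.IsAdmissibleFor V E := ⟨hE, by rw [hEV]; exact disjoint_compl_left⟩
  haveI : CompactSpace P := QuasiCompact.compactSpace_of_compactSpace p
  have hcov : ∀ y : P, ∃ U : X.affineOpens, ∃ Pa : P.affineOpens, y ∈ Pa.1 ∧ Pa.1 ≤ p ⁻¹ᵁ U.1 := fun y => by
    obtain ⟨_, ⟨U, hU, rfl⟩, hyU, -⟩ := X.isBasis_affineOpens.exists_subset_of_mem_open (Set.mem_univ (p y)) isOpen_univ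
    obtain ⟨_, ⟨Pa, hPa, rfl⟩, hy, hle⟩ := P.isBasis_affineOpens.exists_subset_of_mem_open (show y ∈ p ⁻¹ᵁ U from hyU) (p ⁻¹ᵁ U).2
    exact ⟨⟨U, hU⟩, ⟨Pa, hPa⟩, hy, hle⟩
  choose U Pa hyPa hPaU using hcov
  obtain ⟨S, hS⟩ := isCompact_univ.elim_finite_subcover (fun y : P => ((Pa y).1 : Set P)) (fun y => (Pa y).1.2)
    (fun y _ => Set.mem_iUnion.2 ⟨y, hyPa y⟩)
  choose K hKa hK using fun y => exists_piece p V hV E hE hEV (U y) (Pa y) (hPaU y)
  have hadm := isAdmissibleFor_mul hEa (isAdmissibleFor_prod V S fun y _ => hKa y)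
  refine ⟨E * ∏ y ∈ S, K y, hadm, ?_, ?_⟩
  · refine Set.Subset.antisymm (fun x hx hxV => Set.disjoint_left.1 hadm.2 hx hxV) ?_
    rw [Scheme.IdealSheafData.support_mul, Closeds.coe_sup, hEV]
    exact Set.subset_union_left
  intro X' T g a s hStr hI
  have hEE : BlowUp.IsEffCartierIdeal (E.comap g) := isEff_of_dvd (dvd_mul_right _ _) hI
  have hpiece : ∀ y ∈ S, IsOpenImmersion ((a ⁻¹ᵁ (Pa y).1).ι ≫ s) := fun y hy =>
    hK y g a s hStr (isEff_of_dvd (mul_dvd_mul_left E (Finset.dvd_prod_of_mem _ hy)) hI)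
  have hloc : ∀ t : T, ∃ O : T.Opens, t ∈ O ∧ IsOpenImmersion (O.ι ≫ s) := fun t => by
    obtain ⟨y, hy, hty⟩ := Set.mem_iUnion₂.1 (hS (Set.mem_univ (a t)))
    exact ⟨_, hty, hpiece y hy⟩
  haveI := isSeparated_s hStr
  have hTV : g ⁻¹ᵁ V = EffCartier.cmpl (E.comap g) := by
    rw [← BlowUp26.preimage_cmpl_eq]
    congr 1
    ext1
    show (V : Set X) = ((E.support : Set X))ᶜ
    rw [hEV, compl_compl]
  have hinj := injective_of_local hEE (by
    have := exists_preimage_eq hStr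
    rw [hTV] at this
    infer_instance) hloc
  choose O hO hOi using hloc
  exact IsOpenImmersion.of_forall_source_exists s hinj fun t =>
    ⟨_, (O t).ι, inferInstance, by rw [Scheme.Opens.opensRange_ι]; exact hO t, hOi t⟩

/-- Construction of the strict transform. -/
theorem exists_isStrict (p : P ⟶ X) (g : X' ⟶ X) (V : X.Opens) [hq : QuasiCompact ((pullback.snd p g) ⁻¹ᵁ (g ⁻¹ᵁ V)).ι] :
    ∃ (T : Scheme.{u}) (a : T ⟶ P) (s : T ⟶ X'), IsStrict p g V a s := by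
  let O := (pullback.snd p g) ⁻¹ᵁ (g ⁻¹ᵁ V)
  refine ⟨O.ι.image, O.ι.imageι ≫ pullback.fst p g, O.ι.imageι ≫ pullback.snd p g,
    ⟨by simp only [Category.assoc, pullback.condition], ?_, ?_, fun Z u v h hz => ?_⟩⟩
  · have : pullback.lift (O.ι.imageι ≫ pullback.fst p g) (O.ι.imageι ≫ pullback.snd p g)
        (by simp only [Category.assoc, pullback.condition]) = O.ι.imageι := pullback.hom_ext (by simp) (by simp)
    rw [this]; infer_instance
  · haveI := EffCartier.dominant_toImage O.ι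
    refine EffCartier.dominant_of_range_le O.ι.toImage _ fun x => ?_
    show g ((O.ι.imageι ≫ pullback.snd p g) (O.ι.toImage x)) ∈ V
    rw [← Scheme.Hom.comp_apply (O.ι.toImage), Scheme.Hom.toImage_imageι_assoc]
    exact x.2
  · have hr : Set.range (pullback.lift u v h) ⊆ Set.range O.ι := by
      rintro _ ⟨z, rfl⟩
      rw [Scheme.Opens.range_ι]
      show g ((pullback.lift u v h ≫ pullback.snd p g) z) ∈ V
      rw [pullback.lift_snd]
      exact hz z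
    refine ⟨IsOpenImmersion.lift O.ι (pullback.lift u v h) hr ≫ O.ι.toImage, ?_, ?_⟩
    · rw [Category.assoc, Scheme.Hom.toImage_imageι_assoc, IsOpenImmersion.lift_fac_assoc, pullback.lift_fst]
    · rw [Category.assoc, Scheme.Hom.toImage_imageι_assoc, IsOpenImmersion.lift_fac_assoc, pullback.lift_snd]

theorem cmpl_eq {𝓘 : X.IdealSheafData} {V : X.Opens} (h : (𝓘.support : Set X) = (V : Set X)ᶜ) (g : X' ⟶ X) :
    g ⁻¹ᵁ V = EffCartier.cmpl (𝓘.comap g) := by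
  rw [← BlowUp26.preimage_cmpl_eq]
  congr 1
  ext1
  show (V : Set X) = ((𝓘.support : Set X))ᶜ
  rw [h, compl_compl]

theorem exists_isStrict_of_eff (p : P ⟶ X) (g : X' ⟶ X) {V : X.Opens} {𝓘 : X.IdealSheafData}
    (h : (𝓘.support : Set X) = (V : Set X)ᶜ) (hI : BlowUp.IsEffCartierIdeal (𝓘.comap g)) :
    ∃ (T : Scheme.{u}) (a : T ⟶ P) (s : T ⟶ X'), IsStrict p g V a s := by
  haveI : QuasiCompact ((pullback.snd p g) ⁻¹ᵁ (g ⁻¹ᵁ V)).ι := by
    rw [cmpl_eq h g]; exact EffCartier.quasiCompact_preimage_interior hI _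
  exact exists_isStrict p g V

/-- An open immersion strict transform of a proper morphism surjective over `V` is an isomorphism. -/
theorem isIso_of_proper {p : P ⟶ X} [IsProper p] {g : X' ⟶ X} {V : X.Opens} {a : T ⟶ P} {s : T ⟶ X'}
    (hS : IsStrict p g V a s) [IsOpenImmersion s] [IsIso (p ∣_ V)] (hd : Dense ((g ⁻¹ᵁ V : X'.Opens) : Set X')) :
    IsIso s := by
  haveI := isProper_s hS
  have hsub : ((g ⁻¹ᵁ V : X'.Opens) : Set X') ⊆ Set.range s := by
    intro x hx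
    let Z := (g ⁻¹ᵁ V).toScheme
    let u : Z ⟶ P := (g ∣_ V) ≫ inv (p ∣_ V) ≫ (p ⁻¹ᵁ V).ι
    obtain ⟨h, -, hh⟩ := hS.univ Z u (g ⁻¹ᵁ V).ι (by
      simp only [u, Category.assoc]
      rw [← morphismRestrict_ι p V, IsIso.inv_hom_id_assoc, morphismRestrict_ι]) (fun z => z.2)
    refine ⟨h ⟨x, hx⟩, ?_⟩
    rw [← Scheme.Hom.comp_apply, hh]; rfl
  have hsurj : Epi s.base := by
    rw [TopCat.epi_iff_surjective, ← Set.range_eq_univ, ← s.isClosedMap.isClosed_range.closure_eq]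
    exact (hd.mono hsub).closure_eq
  exact IsOpenImmersion.isIso s

theorem dense_preimage {g : X' ⟶ X} {V : X.Opens} {𝓘 : X.IdealSheafData} (h : (𝓘.support : Set X) = (V : Set X)ᶜ)
    (hI : BlowUp.IsEffCartierIdeal (𝓘.comap g)) : Dense ((g ⁻¹ᵁ V : X'.Opens) : Set X') := by
  rw [cmpl_eq h g]
  intro x
  obtain ⟨y, hy, hyx⟩ := EffCartier.exists_specializes_cmpl hI x
  exact hyx.mem_closed isClosed_closure (subset_closure hy)

end Groth.Agent.AdmOpen4
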