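import Groth.Agent.Lib.AdmOpen4.Glue
import Groth.Agent.Lib.Nagata4.Basics

/-!
# Gluing two mutually quasi-dominating models
-/

set_option autoImplicit false
set_option backward.isDefEq.respectTransparency false
universe u

open CategoryTheory CategoryTheory.Limits AlgebraicGeometry TopologicalSpace

namespace Groth.Agent.AdmOpen4

variable {S U X₁ X₂ : Scheme.{u}}

/-- A morphism factoring dominantly through two open pieces covering the target is dominant. -/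
theorem dominant_of_two_pieces {Q : Scheme.{u}} (α : X₁ ⟶ Q) (β : X₂ ⟶ Q) [IsOpenImmersion α] [IsOpenImmersion β]
    (hcov : ∀ x : Q, x ∈ α.opensRange ∨ x ∈ β.opensRange) (j₁ : U ⟶ X₁) (j₂ : U ⟶ X₂)
    [IsSchemeTheoreticallyDominant j₁] [QuasiCompact j₁] [IsSchemeTheoreticallyDominant j₂] [QuasiCompact j₂]
    [QuasiCompact (j₁ ≫ α)]
    (h : j₁ ≫ α = j₂ ≫ β) : IsSchemeTheoreticallyDominant (j₁ ≫ α) := by
  constructor
  have hD : ∀ x : Q, ∃ D : Q.affineOpens, x ∈ D.1 ∧ (D.1 ≤ α.opensRange ∨ D.1 ≤ β.opensRange) := fun x => by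
    rcases hcov x with hx | hx
    · obtain ⟨_, ⟨D, hD, rfl⟩, hxD, hle⟩ := Q.isBasis_affineOpens.exists_subset_of_mem_open hx α.opensRange.2
      exact ⟨⟨D, hD⟩, hxD, Or.inl hle⟩
    · obtain ⟨_, ⟨D, hD, rfl⟩, hxD, hle⟩ := Q.isBasis_affineOpens.exists_subset_of_mem_open hx β.opensRange.2
      exact ⟨⟨D, hD⟩, hxD, Or.inr hle⟩
  choose D hxD hle using hD
  refine Scheme.IdealSheafData.ext_of_iSup_eq_top D (top_le_iff.1 fun x _ => Opens.mem_iSup.2 ⟨x, hxD x⟩) fun x => ?_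
  rw [Scheme.Hom.ker_apply, Scheme.IdealSheafData.ideal_bot, Pi.bot_apply]
  refine (RingHom.injective_iff_ker_eq_bot _).1 ?_
  rcases hle x with hl | hl
  · haveI := α.isIso_app (D x).1 hl
    rw [Scheme.Hom.comp_app]
    exact (j₁.app_injective _).comp (ConcreteCategory.bijective_of_isIso (α.app (D x).1)).1
  · haveI := β.isIso_app (D x).1 hl
    have he : Function.Injective ((j₂ ≫ β).app (D x).1) := by
      rw [Scheme.Hom.comp_app]
      exact (j₂.app_injective _).comp (ConcreteCategory.bijective_of_isIso (β.app (D x).1)).1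
    revert he
    rw [← h]
    exact id

theorem exists_glue_mutual [CompactSpace S] [QuasiSeparatedSpace S] (p₁ : X₁ ⟶ S) (p₂ : X₂ ⟶ S)
    [IsSeparated p₁] [QuasiCompact p₁] [LocallyOfFiniteType p₁] [IsSeparated p₂] [QuasiCompact p₂] [LocallyOfFiniteType p₂]
    (j₁ : U ⟶ X₁) (j₂ : U ⟶ X₂) [IsOpenImmersion j₁] [IsOpenImmersion j₂]
    [IsSchemeTheoreticallyDominant j₁] [IsSchemeTheoreticallyDominant j₂] [QuasiCompact j₁] [QuasiCompact j₂]
    (W₁ : X₁.Opens) (φ : (W₁ : Scheme.{u}) ⟶ X₂) (hφ : W₁.ι ≫ p₁ = φ ≫ p₂)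
    (hφc : IsClosed (Set.range (fun w => (pullback.lift W₁.ι φ hφ) w)))
    (k₁ : U ⟶ (W₁ : Scheme.{u})) (hk₁ : k₁ ≫ W₁.ι = j₁) (hk₁' : k₁ ≫ φ = j₂)
    (W₂ : X₂.Opens) (ψ : (W₂ : Scheme.{u}) ⟶ X₁) (hψ : W₂.ι ≫ p₂ = ψ ≫ p₁)
    (hψc : IsClosed (Set.range (fun w => (pullback.lift W₂.ι ψ hψ) w)))
    (k₂ : U ⟶ (W₂ : Scheme.{u})) (hk₂ : k₂ ≫ W₂.ι = j₂) (hk₂' : k₂ ≫ ψ = j₁) :
    ∃ (Y : Scheme.{u}) (q : Y ⟶ S) (i₁ : X₁ ⟶ Y) (i₂ : X₂ ⟶ Y), IsSeparated q ∧ QuasiCompact q ∧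
      LocallyOfFiniteType q ∧ IsOpenImmersion i₁ ∧ IsOpenImmersion i₂ ∧ i₁ ≫ q = p₁ ∧ i₂ ≫ q = p₂ ∧
      j₁ ≫ i₁ = j₂ ≫ i₂ ∧ QuasiCompact (j₁ ≫ i₁) ∧ IsSchemeTheoreticallyDominant (j₁ ≫ i₁) := by
  haveI : CompactSpace X₁ := QuasiCompact.compactSpace_of_compactSpace p₁
  haveI : CompactSpace X₂ := QuasiCompact.compactSpace_of_compactSpace p₂
  haveI : CompactSpace U := QuasiCompact.compactSpace_of_compactSpace j₁
  -- the comparison morphisms
  let O₁ := φ ⁻¹ᵁ W₂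
  let O₂ := ψ ⁻¹ᵁ W₁
  let f : (O₁ : Scheme.{u}) ⟶ (W₂ : Scheme.{u}) := φ ∣_ W₂
  have hf : f ≫ W₂.ι = O₁.ι ≫ φ := morphismRestrict_ι _ _
  have hdom : ∀ {X : Scheme.{u}} (W : X.Opens) (j : U ⟶ X) [IsSchemeTheoreticallyDominant j] [QuasiCompact j]
      (k : U ⟶ (W : Scheme.{u})), k ≫ W.ι = j → ∀ O : (W : Scheme.{u}).Opens, (∀ x, k x ∈ O) →
      ∃ k' : U ⟶ (O : Scheme.{u}), k' ≫ O.ι = k ∧ IsSchemeTheoreticallyDominant k' ∧ QuasiCompact k' := by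
    intro X W j _ _ k hk O hO
    obtain ⟨k₀, hk₀, hd⟩ := Nagata4.exists_lift_dominant j W (fun x => hk ▸ (k x).2)
    obtain rfl : k₀ = k := (cancel_mono W.ι).1 (hk₀.trans hk.symm)
    haveI : QuasiCompact k₀ := by
      haveI : QuasiCompact (k₀ ≫ W.ι) := by rw [hk₀]; infer_instance
      exact QuasiCompact.of_comp k₀ W.ι
    obtain ⟨k', hk', hd'⟩ := Nagata4.exists_lift_dominant k₀ O hO
    refine ⟨k', hk', hd', ?_⟩
    haveI : QuasiCompact (k' ≫ O.ι) := by rw [hk']; infer_instance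
    exact QuasiCompact.of_comp k' O.ι
  obtain ⟨l₁, hl₁, hl₁d, hl₁q⟩ := hdom W₁ j₁ k₁ hk₁ O₁ (fun x => by
    show φ (k₁ x) ∈ W₂
    rw [← Scheme.Hom.comp_apply, hk₁', ← hk₂]
    exact (k₂ x).2)
  have hψφ : f ≫ ψ = O₁.ι ≫ W₁.ι := Nagata4.ext_dom l₁ p₁ _ _
    (by rw [Category.assoc, ← hψ, reassoc_of% hf, ← hφ, Category.assoc])
    (by rw [reassoc_of% hl₁, hk₁]
        have : l₁ ≫ f = k₂ := by rw [← cancel_mono W₂.ι, Category.assoc, hf, reassoc_of% hl₁, hk₁', hk₂]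
        rw [reassoc_of% this, hk₂'])
  have hfO : ∀ x, f x ∈ O₂ := fun x => by
    show ψ (f x) ∈ W₁
    rw [← Scheme.Hom.comp_apply, hψφ]
    exact (O₁.ι x).2
  let g : (O₂ : Scheme.{u}) ⟶ (W₁ : Scheme.{u}) := ψ ∣_ W₁
  have hg : g ≫ W₁.ι = O₂.ι ≫ ψ := morphismRestrict_ι _ _
  obtain ⟨l₂, hl₂, hl₂d, hl₂q⟩ := hdom W₂ j₂ k₂ hk₂ O₂ (fun x => by
    show ψ (k₂ x) ∈ W₁
    rw [← Scheme.Hom.comp_apply, hk₂', ← hk₁]
    exact (k₁ x).2)
  have hφψ : g ≫ φ = O₂.ι ≫ W₂.ι := Nagata4.ext_dom l₂ p₂ _ _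
    (by rw [Category.assoc, ← hφ, reassoc_of% hg, ← hψ, Category.assoc])
    (by rw [reassoc_of% hl₂, hk₂]
        have : l₂ ≫ g = k₁ := by rw [← cancel_mono W₁.ι, Category.assoc, hg, reassoc_of% hl₂, hk₂', hk₁]
        rw [reassoc_of% this, hk₁'])
  have hgO : ∀ x, g x ∈ O₁ := fun x => by
    show φ (g x) ∈ W₂
    rw [← Scheme.Hom.comp_apply, hφψ]
    exact (O₂.ι x).2
  let F : (O₁ : Scheme.{u}) ⟶ (O₂ : Scheme.{u}) := IsOpenImmersion.lift O₂.ι f (by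
    rintro _ ⟨x, rfl⟩; rw [Scheme.Opens.range_ι]; exact hfO x)
  let G : (O₂ : Scheme.{u}) ⟶ (O₁ : Scheme.{u}) := IsOpenImmersion.lift O₁.ι g (by
    rintro _ ⟨x, rfl⟩; rw [Scheme.Opens.range_ι]; exact hgO x)
  have hF : F ≫ O₂.ι = f := IsOpenImmersion.lift_fac _ _ _
  have hG : G ≫ O₁.ι = g := IsOpenImmersion.lift_fac _ _ _
  haveI : IsIso F := ⟨G, by
      rw [← cancel_mono O₁.ι, Category.assoc, hG, Category.id_comp, ← cancel_mono W₁.ι, Category.assoc, hg,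
        reassoc_of% hF, hψφ], by
      rw [← cancel_mono O₂.ι, Category.assoc, hF, Category.id_comp, ← cancel_mono W₂.ι, Category.assoc, hf,
        reassoc_of% hG, hφψ]⟩
  let i : (O₁ : Scheme.{u}) ⟶ X₁ := O₁.ι ≫ W₁.ι
  let j : (O₁ : Scheme.{u}) ⟶ X₂ := F ≫ O₂.ι ≫ W₂.ι
  have hjφ : j = O₁.ι ≫ φ := by simp only [j, reassoc_of% hF, hf]
  have h : i ≫ p₁ = j ≫ p₂ := by rw [hjφ]; simp only [i, Category.assoc, hφ]
  let L := pullback.lift i j h
  haveI : IsImmersion (L ≫ pullback.fst p₁ p₂) := by rw [pullback.lift_fst]; infer_instance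
  haveI : IsImmersion L := IsImmersion.of_comp L (pullback.fst p₁ p₂)
  haveI : IsClosedImmersion L := by
    refine IsClosedImmersion.of_isPreimmersion _ ?_
    let Γ₁ := pullback.lift W₁.ι φ hφ
    let Γ₂ := pullback.lift ψ W₂.ι hψ.symm
    have hΓ₂ : IsClosed (Set.range Γ₂) := by
      have : Γ₂ = pullback.lift W₂.ι ψ hψ ≫ (pullbackSymmetry p₂ p₁).hom := by
        apply pullback.hom_ext <;> simp [Γ₂]
      rw [this, Scheme.Hom.comp_base, TopCat.coe_comp, Set.range_comp]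
      exact (pullbackSymmetry p₂ p₁).hom.homeomorph.isClosedMap _ hψc
    have hL : O₁.ι ≫ Γ₁ = L := by
      apply pullback.hom_ext
      · rw [Category.assoc, pullback.lift_fst, pullback.lift_fst]
      · rw [Category.assoc, pullback.lift_snd, pullback.lift_snd, hjφ]
    have hL' : f ≫ Γ₂ = L := by
      apply pullback.hom_ext
      · rw [Category.assoc, pullback.lift_fst, pullback.lift_fst, hψφ]
      · rw [Category.assoc, pullback.lift_snd, pullback.lift_snd, hjφ, hf]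
    have : Set.range L = Set.range Γ₁ ∩ Set.range Γ₂ := by
      ext z
      constructor
      · rintro ⟨x, rfl⟩
        exact ⟨⟨O₁.ι x, by rw [← Scheme.Hom.comp_apply, hL]⟩, ⟨f x, by rw [← Scheme.Hom.comp_apply, hL']⟩⟩
      · rintro ⟨⟨w, hw⟩, ⟨w₂, hw₂⟩⟩
        have h1 : φ w = W₂.ι w₂ := by
          have := congrArg (pullback.snd p₁ p₂) (hw.trans hw₂.symm)
          rwa [← Scheme.Hom.comp_apply, ← Scheme.Hom.comp_apply, pullback.lift_snd, pullback.lift_snd] at this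
        have hwO : w ∈ O₁ := show φ w ∈ W₂ from h1 ▸ w₂.2
        exact ⟨⟨w, hwO⟩, by rw [← hL, Scheme.Hom.comp_apply]; exact hw⟩
    rw [this]
    exact hφc.inter hΓ₂
  have hjj : j₁ ≫ pushout.inl i j = j₂ ≫ pushout.inr i j := by
    have e1 : l₁ ≫ i = j₁ := by simp only [i, reassoc_of% hl₁, hk₁]
    have e2 : l₁ ≫ j = j₂ := by rw [hjφ, reassoc_of% hl₁, hk₁']
    rw [← e1, ← e2]; exact (Category.assoc _ _ _).trans ((congrArg (l₁ ≫ ·) pushout.condition).trans (Category.assoc _ _ _).symm)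
  have hsep := AdmOpen4.isSeparated_pushout i j p₁ p₂ h
  have hqc := AdmOpen4.quasiCompact_pushout i j p₁ p₂ h
  haveI : QuasiSeparatedSpace (pushout i j :) := quasiSeparatedSpace_of_quasiSeparated (pushout.desc p₁ p₂ h)
  haveI : QuasiCompact (j₁ ≫ pushout.inl i j) := inferInstance
  exact ⟨_, pushout.desc p₁ p₂ h, pushout.inl i j, pushout.inr i j, hsep, hqc,
    AdmOpen4.locallyOfFiniteType_pushout i j p₁ p₂ h, inferInstance, inferInstance, pushout.inl_desc _ _ _,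
    pushout.inr_desc _ _ _, hjj, inferInstance,
    dominant_of_two_pieces (pushout.inl i j) (pushout.inr i j)
      (fun x => (LimH13.range_inl_sup_range_inr i j).ge (show x ∈ ⊤ from trivial)) j₁ j₂ hjj⟩

end Groth.Agent.AdmOpen4
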