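import Groth.Agent.Lib.AdmOpen4.Main

/-!
# Centres on open subschemes and images of sections
-/

set_option autoImplicit false
set_option backward.isDefEq.respectTransparency false
universe u

open CategoryTheory CategoryTheory.Limits AlgebraicGeometry TopologicalSpace

namespace Groth.Agent.AdmOpen4

variable {X : Scheme.{u}}

theorem fg_comap_of_bijective {A B : Type*} [CommRing A] [CommRing B] (φ : A →+* B) (h : Function.Bijective φ)
    {J : Ideal B} (hJ : J.FG) : (J.comap φ).FG := by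
  let e := RingEquiv.ofBijective φ h
  have : J.comap φ = J.map (e.symm : B →+* A) := by
    ext x
    constructor
    · intro hx
      rw [← e.symm_apply_apply x]
      exact Ideal.mem_map_of_mem (e.symm : B →+* A) (show e x ∈ J from hx)
    · intro hx
      obtain ⟨y, hy, rfl⟩ := (Ideal.mem_map_iff_of_surjective _ e.symm.surjective).1 hx
      show φ (e.symm y) ∈ J
      rw [show φ (e.symm y) = y from e.apply_symm_apply y]
      exact hy
  exact this ▸ hJ.map _

/-- An admissible centre on a quasi-compact open extends to an admissible centre. -/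
theorem exists_isAdmissible_comap [CompactSpace X] [QuasiSeparatedSpace X] (U W : X.Opens) (hUW : U ≤ W)
    (hW : IsCompact (W : Set X)) (K : (W : Scheme.{u}).IdealSheafData)
    (hK : BlowUp.IsAdmissibleFor (W.ι ⁻¹ᵁ U) K) :
    ∃ I : X.IdealSheafData, BlowUp.IsAdmissibleFor U I ∧ I.comap W.ι = K := by
  classical
  haveI : QuasiCompact W.ι := by
    refine ⟨fun Z hZ hc => ?_⟩
    rw [W.ι.isOpenEmbedding.isEmbedding.isCompact_iff, Set.image_preimage_eq_inter_range, Scheme.Opens.range_ι]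
    exact QuasiSeparatedSpace.inter_isCompact Z (W : Set X) hZ hc W.2 hW
  obtain ⟨t, ht⟩ := hW.elim_finite_subcover (fun D : {D : X.affineOpens // D.1 ≤ W} => (D.1.1 : Set X))
    (fun D => D.1.1.2) (fun x hx => by
      obtain ⟨_, ⟨Z, hZ, rfl⟩, hxZ, hZW⟩ := X.isBasis_affineOpens.exists_subset_of_mem_open hx W.2
      exact Set.mem_iUnion.2 ⟨⟨⟨Z, hZ⟩, hZW⟩, hxZ⟩)
  have haff : ∀ D : {D : X.affineOpens // D.1 ≤ W}, IsAffineOpen (W.ι ⁻¹ᵁ D.1.1) := fun D => by
    rw [← W.ι.isAffineOpen_iff_of_isOpenImmersion, Scheme.Hom.image_preimage_eq_opensRange_inf,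
      Scheme.Opens.opensRange_ι, inf_eq_right.2 D.2]
    exact D.1.2
  have hbij : ∀ D : {D : X.affineOpens // D.1 ≤ W}, Function.Bijective (W.ι.app D.1.1) := fun D => by
    haveI := W.ι.isIso_app D.1.1 (by rw [Scheme.Opens.opensRange_ι]; exact D.2)
    exact ConcreteCategory.bijective_of_isIso _
  have hmap : ∀ D : {D : X.affineOpens // D.1 ≤ W}, (K.map W.ι).ideal D.1 = (K.ideal ⟨_, haff D⟩).comap (W.ι.app D.1.1).hom :=
    fun D => Scheme.IdealSheafData.ideal_map K W.ι D.1 (haff D)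
  obtain ⟨I, hI, -, heq⟩ := exists_ifg_agree (K.map W.ι) (t.image Subtype.val) fun D hD => by
    obtain ⟨D', -, rfl⟩ := Finset.mem_image.1 hD
    rw [hmap D']
    exact fg_comap_of_bijective _ (hbij D') (hK.1 _)
  have hIK : I.comap W.ι = K := by
    refine Scheme.IdealSheafData.ext_of_iSup_eq_top (fun D : (t : Set {D : X.affineOpens // D.1 ≤ W}) => ⟨_, haff D.1⟩)
      (top_le_iff.1 fun x _ => ?_) fun D => ?_
    · obtain ⟨D, hD, hx⟩ := Set.mem_iUnion₂.1 (ht x.2)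
      exact Opens.mem_iSup.2 ⟨⟨D, hD⟩, hx⟩
    · rw [EffCartier.comap_ideal I W.ι D.1.1 ⟨_, haff D.1⟩ le_rfl,
        heq _ (Finset.mem_image_of_mem _ D.2), hmap D.1, ← Scheme.Hom.app_eq_appLE]
      exact Ideal.map_comap_of_surjective _ (hbij D.1).2 _
  refine ⟨I, ⟨hI, Set.disjoint_left.2 fun x hx hxU => ?_⟩, hIK⟩
  have h : (⟨x, hUW hxU⟩ : W) ∈ (K.support : Set (W : Scheme.{u})) := by
    rw [← hIK, Scheme.IdealSheafData.support_comap]; exact hx
  exact Set.disjoint_left.1 hK.2 h hxU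

/-- The image of a partial section is isomorphic to the domain over the domain. -/
theorem isIso_restrict_of_section {S Z : Scheme.{u}} (U : S.Opens) [QuasiCompact U.ι] (f : Z ⟶ S) [IsSeparated f]
    (σ : (U : Scheme.{u}) ⟶ Z) [IsSchemeTheoreticallyDominant σ] (hσ : σ ≫ f = U.ι) : IsIso (f ∣_ U) := by
  have hr : σ ⁻¹ᵁ (f ⁻¹ᵁ U) = ⊤ := by
    ext x
    simp only [Opens.coe_top, Set.mem_univ, iff_true]
    show f (σ x) ∈ U
    rw [← Scheme.Hom.comp_apply, hσ]
    exact x.2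
  haveI hqc : QuasiCompact σ := by
    haveI : QuasiCompact (σ ≫ f) := by rw [hσ]; infer_instance
    exact QuasiCompact.of_comp σ f
  haveI : IsSchemeTheoreticallyDominant (σ ∣_ (f ⁻¹ᵁ U)) :=
    IsSchemeTheoreticallyDominant.of_isPullback (f := σ) (g := (f ⁻¹ᵁ U).ι)
      (isPullback_morphismRestrict σ (f ⁻¹ᵁ U)).flip
  haveI : IsIso ((σ ∣_ (f ⁻¹ᵁ U)) ≫ (f ∣_ U)) := by
    let q := (σ ∣_ (f ⁻¹ᵁ U)) ≫ (f ∣_ U)
    have hq : q = (σ ⁻¹ᵁ (f ⁻¹ᵁ U)).ι := by
      rw [← cancel_mono U.ι]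
      simp only [q, Category.assoc, morphismRestrict_ι, morphismRestrict_ι_assoc, hσ]
    show IsIso q
    rw [hq]
    have : Epi (σ ⁻¹ᵁ (f ⁻¹ᵁ U)).ι.base := by
      rw [TopCat.epi_iff_surjective]
      exact fun x => ⟨⟨x, hr.ge trivial⟩, rfl⟩
    exact IsOpenImmersion.isIso _
  haveI : IsSeparated (f ∣_ U) := IsZariskiLocalAtTarget.restrict ‹_› U
  haveI : IsClosedImmersion (σ ∣_ (f ⁻¹ᵁ U)) := IsClosedImmersion.of_comp _ (f ∣_ U)
  haveI : IsIso (σ ∣_ (f ⁻¹ᵁ U)) := IsClosedImmersion.isIso_of_ker_eq _ (𝟙 _) _ (Category.comp_id _)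
    (by rw [Scheme.Hom.ker_eq_bot, Scheme.Hom.ker_eq_bot_of_isIso])
  exact IsIso.of_isIso_comp_left (σ ∣_ (f ⁻¹ᵁ U)) (f ∣_ U)

end Groth.Agent.AdmOpen4
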