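import Groth.Agent.Lib.AdmOpen4.Kill
import Groth.Agent.Lib.AdmOpen4.Open
import Groth.Agent.Lib.Nagata4.Shrink
import Groth.Agent.Lib.AdmBlowUp4.Separate
import Groth.Agent.Lib.BlowUpComp4.Main

/-!
# Strict transforms that are isomorphisms near the closure of a closed subset of an open
-/

set_option autoImplicit false
set_option backward.isDefEq.respectTransparency false
universe u

open CategoryTheory CategoryTheory.Limits AlgebraicGeometry TopologicalSpace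

namespace Groth.Agent.AdmOpen4

variable {X Y Y' T N : Scheme.{u}}

/-- A strict transform restricted to an open of the new base, lying over an arbitrary `N → Y`. -/
theorem isStrict_restrict {f : X ⟶ Y} {b : Y' ⟶ Y} {V : Y.Opens} {a : T ⟶ X} {s : T ⟶ Y'}
    (hS : IsStrict f b V a s) [QuasiCompact (s ⁻¹ᵁ (b ⁻¹ᵁ V)).ι] (W' : Y'.Opens) (h : N ⟶ Y) (g : (W' : Scheme.{u}) ⟶ N) (hg : g ≫ h = W'.ι ≫ b) :
    ∃ a' : ((s ⁻¹ᵁ W' : T.Opens) : Scheme.{u}) ⟶ pullback f h,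
      IsStrict (pullback.snd f h) g (h ⁻¹ᵁ V) a' (s ∣_ W') := by
  have hw : ((s ⁻¹ᵁ W').ι ≫ a) ≫ f = ((s ∣_ W') ≫ g) ≫ h := by
    rw [Category.assoc, Category.assoc, hg, morphismRestrict_ι_assoc, hS.w]
  let a' := pullback.lift ((s ⁻¹ᵁ W').ι ≫ a) ((s ∣_ W') ≫ g) hw
  have ha' : a' ≫ pullback.snd f h = (s ∣_ W') ≫ g := pullback.lift_snd _ _ _
  refine ⟨a', ha', ?_, ?_, fun Z u v huv hz => ?_⟩
  · haveI := hS.closed
    let m : pullback (pullback.snd f h) g ⟶ pullback f b :=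
      pullback.lift (pullback.fst (pullback.snd f h) g ≫ pullback.fst f h) (pullback.snd (pullback.snd f h) g ≫ W'.ι) (by
        rw [Category.assoc, Category.assoc, pullback.condition, ← hg, ← Category.assoc, pullback.condition]
        simp only [Category.assoc])
    have hbig : IsPullback (pullback.fst (pullback.snd f h) g ≫ pullback.fst f h) (pullback.snd (pullback.snd f h) g) f
        (W'.ι ≫ b) :=
      hg ▸ (IsPullback.of_hasPullback (pullback.snd f h) g).paste_horiz (IsPullback.of_hasPullback f h)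
    have hbot : IsPullback m (pullback.snd (pullback.snd f h) g) (pullback.snd f b) W'.ι :=
      IsPullback.of_right (by simpa [m] using hbig) (pullback.lift_snd _ _ _) (IsPullback.of_hasPullback f b)
    have htop : IsPullback (s ⁻¹ᵁ W').ι (pullback.lift a' (s ∣_ W') ha') (pullback.lift a s hS.w) m := by
      refine IsPullback.of_bot (v₂₁ := pullback.snd (pullback.snd f h) g) (v₂₂ := pullback.snd f b) (h₃₁ := W'.ι)
        ?_ ?_ hbot
      · rw [pullback.lift_snd, pullback.lift_snd]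
        exact (isPullback_morphismRestrict s W').flip
      · apply pullback.hom_ext
        · simp [m, a']
        · simp [m, morphismRestrict_ι]
    exact MorphismProperty.of_isPullback htop hS.closed
  · haveI := hS.dense
    have heq : (s ∣_ W') ⁻¹ᵁ (g ⁻¹ᵁ (h ⁻¹ᵁ V)) = (s ⁻¹ᵁ W').ι ⁻¹ᵁ (s ⁻¹ᵁ (b ⁻¹ᵁ V)) := by
      rw [← Scheme.Hom.comp_preimage, ← Scheme.Hom.comp_preimage, ← Scheme.Hom.comp_preimage, ← Scheme.Hom.comp_preimage,
        Category.assoc, hg, morphismRestrict_ι_assoc, Category.assoc]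
    rw [heq]
    exact IsSchemeTheoreticallyDominant.of_isPullback (f := (s ⁻¹ᵁ (b ⁻¹ᵁ V)).ι) (g := (s ⁻¹ᵁ W').ι)
      (isPullback_morphismRestrict (s ⁻¹ᵁ W').ι (s ⁻¹ᵁ (b ⁻¹ᵁ V)))
  · obtain ⟨t, ht₁, ht₂⟩ := hS.univ Z (u ≫ pullback.fst f h) (v ≫ W'.ι) (by
      rw [Category.assoc, Category.assoc, pullback.condition, ← Category.assoc, huv, Category.assoc, hg]) (fun z => by
      have := hz z
      show (v ≫ W'.ι ≫ b) z ∈ V
      rw [← hg]
      exact this)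
    have hr : Set.range t ⊆ Set.range (s ⁻¹ᵁ W').ι := by
      rintro _ ⟨z, rfl⟩
      rw [Scheme.Opens.range_ι]
      show (t ≫ s) z ∈ W'
      rw [ht₂]
      exact (v z).2
    have hsnd : IsOpenImmersion.lift (s ⁻¹ᵁ W').ι t hr ≫ (s ∣_ W') = v := by
      rw [← cancel_mono W'.ι, Category.assoc, morphismRestrict_ι, IsOpenImmersion.lift_fac_assoc, ht₂]
    refine ⟨IsOpenImmersion.lift (s ⁻¹ᵁ W').ι t hr, pullback.hom_ext ?_ ?_, hsnd⟩
    · rw [Category.assoc, pullback.lift_fst, IsOpenImmersion.lift_fac_assoc, ht₁]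
    · rw [Category.assoc, ha', reassoc_of% hsnd, huv]

/-- A base change is an isomorphism over an open mapping into the locus where the original map is one. -/
theorem isIso_restrict_baseChange (f : X ⟶ Y) (h : N ⟶ Y) (W : Y.Opens) [IsIso (f ∣_ W)] (O : N.Opens)
    (hO : O ≤ h ⁻¹ᵁ W) : IsIso (pullback.snd f h ∣_ O) := by
  haveI : IsIso (pullback.snd f h ∣_ (h ⁻¹ᵁ W)) := by
    have hbig : IsPullback ((pullback.snd f h ⁻¹ᵁ (h ⁻¹ᵁ W)).ι ≫ pullback.fst f h)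
        (pullback.snd f h ∣_ (h ⁻¹ᵁ W)) f ((h ∣_ W) ≫ W.ι) := by
      rw [morphismRestrict_ι]
      exact (isPullback_morphismRestrict (pullback.snd f h) (h ⁻¹ᵁ W)).flip.paste_horiz (IsPullback.of_hasPullback f h)
    have hr : Set.range ((pullback.snd f h ⁻¹ᵁ (h ⁻¹ᵁ W)).ι ≫ pullback.fst f h) ⊆ Set.range (f ⁻¹ᵁ W).ι := by
      rintro _ ⟨z, rfl⟩
      rw [Scheme.Opens.range_ι]
      show ((pullback.snd f h ⁻¹ᵁ (h ⁻¹ᵁ W)).ι ≫ pullback.fst f h ≫ f) z ∈ W
      rw [pullback.condition]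
      exact z.2
    have hsq : IsPullback (IsOpenImmersion.lift (f ⁻¹ᵁ W).ι _ hr) (pullback.snd f h ∣_ (h ⁻¹ᵁ W)) (f ∣_ W) (h ∣_ W) :=
      IsPullback.of_right (by rw [IsOpenImmersion.lift_fac]; exact hbig)
        (by rw [← cancel_mono W.ι, Category.assoc, Category.assoc, morphismRestrict_ι,
              IsOpenImmersion.lift_fac_assoc, morphismRestrict_ι]
            simpa using hbig.w)
        (isPullback_morphismRestrict f W).flip
    exact hsq.isIso_snd_of_isIso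
  exact AdmBlowUp4.isIso_restrict_of_le' _ hO

theorem isQuasiCompactMap_ι {Y : Scheme.{u}} [QuasiSeparatedSpace Y] (N : Y.Opens) (hN : IsCompact (N : Set Y)) :
    QuasiCompact N.ι := by
  refine ⟨fun Z hZ hc => ?_⟩
  rw [N.ι.isOpenEmbedding.isEmbedding.isCompact_iff, Set.image_preimage_eq_inter_range, Scheme.Opens.range_ι]
  exact QuasiSeparatedSpace.inter_isCompact Z (N : Set Y) hZ hc N.2 hN

theorem exists_qc_open_between {Y : Scheme.{u}} (C : Set Y) (hC : IsCompact C) (W : Y.Opens) (h : C ⊆ W) :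
    ∃ O : Y.Opens, IsCompact (O : Set Y) ∧ C ⊆ O ∧ O ≤ W := by
  obtain ⟨t, ht⟩ := hC.elim_finite_subcover (fun D : {D : Y.affineOpens // D.1 ≤ W} => (D.1.1 : Set Y))
    (fun D => D.1.1.2) (fun x hx => by
      obtain ⟨_, ⟨D, hD, rfl⟩, hxD, hDW⟩ := Y.isBasis_affineOpens.exists_subset_of_mem_open (h hx) W.2
      exact Set.mem_iUnion.2 ⟨⟨⟨D, hD⟩, hDW⟩, hxD⟩)
  refine ⟨⟨⋃ D ∈ t, (D.1.1 : Set Y), isOpen_biUnion fun D _ => D.1.1.2⟩,
    t.finite_toSet.isCompact_biUnion fun D _ => D.1.2.isCompact, ht, fun x hx => ?_⟩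
  obtain ⟨D, hD, hxD⟩ := Set.mem_iUnion₂.1 hx
  exact D.2 hxD

/-- The centre on the ambient scheme for a morphism which is an isomorphism over part of an open near a closed set. -/
theorem exists_center_near {Y : Scheme.{u}} [CompactSpace Y] [QuasiSeparatedSpace Y] (V : Y.Opens)
    (hV : IsCompact (V : Set Y)) (N : Y.Opens) (hN : IsCompact (N : Set Y)) (B : Set Y) (hB : IsClosed B)
    (hBN : B ⊆ N) (K : (N : Scheme.{u}).IdealSheafData)
    (hK : BlowUp.IsAdmissibleFor (N.ι ⁻¹ᵁ V) K) :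
    ∃ (I : Y.IdealSheafData) (N' : Y.Opens) (hN' : N' ≤ N), BlowUp.IsAdmissibleFor V I ∧ B ⊆ N' ∧
      I.comap N'.ι = K.comap (Y.homOfLE hN') := by
  obtain ⟨I₀, hI₀, hI₀K⟩ := exists_isAdmissible_comap (V ⊓ N) N inf_le_right hN K (by
    have : N.ι ⁻¹ᵁ (V ⊓ N) = N.ι ⁻¹ᵁ V := by ext x; exact ⟨fun h => h.1, fun h => ⟨h, x.2⟩⟩
    rwa [this])
  obtain ⟨J, hJ, hJV⟩ := AdmBlowUp4.exists_ideal_support_eq Y V hV
  obtain ⟨m, hm⟩ := Nagata4.exists_uniform_pow_le (a := I₀) (j := J) hJ B hB N hBN (fun x hxN hx => by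
    rw [hJV]
    exact fun hxV => Set.disjoint_left.1 hI₀.2 hx ⟨hxV, hxN⟩)
  choose Ω hΩ₁ hΩ₂ using hm
  let N' : Y.Opens := (⨆ x : B, (Ω x.1 x.2).1) ⊓ N
  refine ⟨I₀ ⊔ J ^ (m + 1), N', inf_le_right, ⟨EffCartier.isFiniteTypeIdeal_sup hI₀.1 fun D => ?_, ?_⟩,
    fun x hx => ⟨Opens.mem_iSup.2 ⟨⟨x, hx⟩, hΩ₁ x hx⟩, hBN hx⟩, ?_⟩
  · rw [Scheme.IdealSheafData.ideal_pow, Pi.pow_apply]; exact Ideal.FG.pow (hJ D)
  · refine Disjoint.mono_left (fun x hx => ?_) (show Disjoint (J.support : Set Y) V by rw [hJV]; exact disjoint_compl_left)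
    rw [← Scheme.IdealSheafData.support_pow_succ (I := J) (n := m)]
    exact (Scheme.IdealSheafData.support_antitone le_sup_right) hx
  rw [← hI₀K, ← Scheme.IdealSheafData.comap_comp, Scheme.homOfLE_ι]
  have hcov : ∀ y : N', ∃ (D : (N' : Scheme.{u}).affineOpens) (x : B),
      y ∈ D.1 ∧ D.1 ≤ N'.ι ⁻¹ᵁ (Ω x.1 x.2).1 := fun y => by
    obtain ⟨x, hx⟩ := Opens.mem_iSup.1 y.2.1
    obtain ⟨_, ⟨D, hD, rfl⟩, hyD, hle⟩ := (N' : Scheme.{u}).isBasis_affineOpens.exists_subset_of_mem_open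
      (show y ∈ N'.ι ⁻¹ᵁ (Ω x.1 x.2).1 from hx) (N'.ι ⁻¹ᵁ (Ω x.1 x.2).1).2
    exact ⟨⟨D, hD⟩, x, hyD, hle⟩
  choose D x hyD hle using hcov
  refine Scheme.IdealSheafData.ext_of_iSup_eq_top D (top_le_iff.1 fun y _ => Opens.mem_iSup.2 ⟨y, hyD y⟩) fun y => ?_
  rw [EffCartier.comap_ideal _ N'.ι (Ω (x y).1 (x y).2) (D y) (hle y),
    EffCartier.comap_ideal _ N'.ι (Ω (x y).1 (x y).2) (D y) (hle y)]
  refine congrArg _ ?_
  rw [Scheme.IdealSheafData.ideal_sup]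
  refine sup_eq_left.2 ?_
  rw [Scheme.IdealSheafData.ideal_pow, Pi.pow_apply]
  exact (Ideal.pow_le_pow_right (Nat.le_succ m)).trans (hΩ₂ _ _)

end Groth.Agent.AdmOpen4
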