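import Groth.Agent.Lib.AdmOpen4.Near

/-!
# Isomorphism near the closure: main lemma
-/

set_option autoImplicit false
set_option backward.isDefEq.respectTransparency false
universe u

open CategoryTheory CategoryTheory.Limits AlgebraicGeometry TopologicalSpace

namespace Groth.Agent.AdmOpen4

variable {X Y : Scheme.{u}} [CompactSpace Y] [QuasiSeparatedSpace Y]

/-- First blow-up: a quasi-compact open around the closure of `T` whose trace on `V` lies in `W`. -/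
theorem exists_first (V : Y.Opens) (hV : IsCompact (V : Set Y)) (T : Set Y) (hTV : T ⊆ V)
    (hT : IsClosed (Subtype.val ⁻¹' T : Set V)) (W : Y.Opens) (hTW : T ⊆ W) (hWV : W ≤ V) :
    ∃ (C : Y.IdealSheafData) (Y₁ : Scheme.{u}) (b₁ : Y₁ ⟶ Y) (N : Y₁.Opens),
      BlowUp.IsBlowUp b₁ C ∧ BlowUp.IsFiniteTypeIdeal C ∧ (C.support : Set Y) = (V : Set Y)ᶜ ∧
      IsCompact (N : Set Y₁) ∧ closure (b₁ ⁻¹' T) ⊆ N ∧ N ⊓ b₁ ⁻¹ᵁ V ≤ b₁ ⁻¹ᵁ W := by
  haveI : CompactSpace V := isCompact_iff_compactSpace.1 hV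
  have hTc : IsCompact T := by
    have : T = Subtype.val '' (Subtype.val ⁻¹' T : Set V) := by
      ext x
      exact ⟨fun hx => ⟨⟨x, hTV hx⟩, hx, rfl⟩, fun ⟨y, hy, hyx⟩ => hyx ▸ hy⟩
    exact this ▸ hT.isCompact.image continuous_subtype_val
  obtain ⟨W₀, hW₀, hTW₀, hW₀W⟩ := exists_qc_open_between T hTc W hTW
  obtain ⟨F, hF, hFT⟩ := isOpen_induced_iff.1 hT.isOpen_compl
  have hT₂ : IsCompact ((V : Set Y) \ W₀) := hV.diff W₀.2
  obtain ⟨O, hO, hT₂O, hOF⟩ := exists_qc_open_between _ hT₂ (V ⊓ ⟨F, hF⟩) (fun x hx =>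
    ⟨hx.1, show (⟨x, hx.1⟩ : V) ∈ Subtype.val ⁻¹' F from hFT ▸ fun h => hx.2 (hTW₀ h)⟩)
  have hOT : ∀ x ∈ T, x ∉ O := fun x hx hxO => by
    have := (hOF hxO).2
    have h2 : (⟨x, hTV hx⟩ : V) ∈ Subtype.val ⁻¹' F := this
    rw [hFT] at h2
    exact h2 hx
  obtain ⟨J₁, hJ₁, hs₁⟩ := AdmBlowUp4.exists_ideal_support_eq Y O hO
  obtain ⟨J₂, hJ₂, hs₂⟩ := AdmBlowUp4.exists_ideal_support_eq Y W₀ hW₀
  have hsI : ((J₁ ⊔ J₂).support : Set Y) = (V : Set Y)ᶜ := by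
    rw [Scheme.IdealSheafData.support_sup, Closeds.coe_inf, hs₁, hs₂, ← Set.compl_union, compl_inj_iff]
    refine Set.Subset.antisymm ?_ fun x hx => ?_
    · rintro x (hx | hx)
      exacts [(hOF hx).1, hWV (hW₀W hx)]
    · by_cases hxW : x ∈ W₀
      exacts [Or.inr hxW, Or.inl (hT₂O ⟨hx, hxW⟩)]
  have hft := EffCartier.isFiniteTypeIdeal_sup (X := Y) (I := J₁) (J := J₂) hJ₁ hJ₂
  let b₁ := BlowUpExist.ChartIdx.blowUpHom (J₁ ⊔ J₂)
  have hb₁ : BlowUp.IsBlowUp b₁ (J₁ ⊔ J₂) := BlowUpExist.ChartIdx.isBlowUp_blowUpHom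
  haveI : IsProper b₁ := BlowUpExist.isProper hft hb₁
  haveI := QuasiCompact.compactSpace_of_compactSpace b₁
  haveI := quasiSeparatedSpace_of_quasiSeparated b₁
  have hc := hb₁.1
  rw [Scheme.IdealSheafData.comap_sup] at hc
  have hsupp : ∀ (K : Y.IdealSheafData), ((K.comap b₁).support : Set _) = b₁ ⁻¹' (K.support : Set Y) := fun K => by
    rw [Scheme.IdealSheafData.support_comap]; rfl
  have hdisj : Disjoint (closure (b₁ ⁻¹' T)) (closure (b₁ ⁻¹' ((V : Set Y) \ W₀))) := by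
    refine AdmBlowUp4.disjoint_closure hc (fun y hy => ?_) (fun y hy => ?_) ?_ ?_
    · rw [hsupp, hs₁]; exact hOT _ hy
    · rw [hsupp, hs₂]; exact hy.2
    · rw [← Scheme.IdealSheafData.comap_sup, hsupp, hsI]
      exact Set.disjoint_left.2 fun y hy h => h (hTV hy)
    · rw [← Scheme.IdealSheafData.comap_sup, hsupp, hsI]
      exact Set.disjoint_left.2 fun y hy h => h hy.1
  obtain ⟨N, hN, hTN, hNle⟩ := exists_qc_open_between _ isClosed_closure.isCompact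
    ⟨(closure (b₁ ⁻¹' ((V : Set Y) \ W₀)))ᶜ, isClosed_closure.isOpen_compl⟩ fun x hx => Set.disjoint_left.1 hdisj hx
  refine ⟨J₁ ⊔ J₂, _, b₁, N, hb₁, hft, hsI, hN, hTN, fun y hy => hW₀W ?_⟩
  by_contra h
  exact hNle hy.1 (subset_closure ⟨hy.2, h⟩)

/-- The centre for the isomorphism near the closure. -/
theorem exists_center_iso_near [CompactSpace X] (f : X ⟶ Y) [IsProper f] (V : Y.Opens)
    (hV : IsCompact (V : Set Y)) (T : Set Y) (hTV : T ⊆ V)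
    (hT : IsClosed (Subtype.val ⁻¹' T : Set V)) (W : Y.Opens) (hTW : T ⊆ W) (hWV : W ≤ V) [IsIso (f ∣_ W)] :
    ∃ (I : Y.IdealSheafData) (Y' : Scheme.{u}) (b : Y' ⟶ Y), BlowUp.IsBlowUp b I ∧ BlowUp.IsFiniteTypeIdeal I ∧
      (I.support : Set Y) = (V : Set Y)ᶜ ∧ ∃ W' : Y'.Opens, closure (b ⁻¹' T) ⊆ W' ∧
        ∀ (Z : Scheme.{u}) (a : Z ⟶ X) (s : Z ⟶ Y'), IsStrict f b V a s → IsIso (s ∣_ W') := by
  obtain ⟨C, Y₁, b₁, N, hb₁, hC, hCs, hN, hTN, hNW⟩ := exists_first V hV T hTV hT W hTW hWV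
  haveI : IsProper b₁ := BlowUpExist.isProper hC hb₁
  haveI := QuasiCompact.compactSpace_of_compactSpace b₁
  haveI := quasiSeparatedSpace_of_quasiSeparated b₁
  haveI : CompactSpace (N : Scheme.{u}) := isCompact_iff_compactSpace.1 hN
  haveI := isQuasiCompactMap_ι N hN
  haveI : QuasiSeparatedSpace (N : Scheme.{u}) := quasiSeparatedSpace_of_quasiSeparated N.ι
  let h := N.ι ≫ b₁
  let VN := h ⁻¹ᵁ V
  haveI : QuasiCompact h := inferInstance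
  have hVN : IsCompact (VN : Set (N : Scheme.{u})) := QuasiCompact.isCompact_preimage (f := h) V V.2 hV
  haveI : IsIso (pullback.snd f h ∣_ VN) :=
    isIso_restrict_baseChange f h W VN fun x hx => hNW ⟨x.2, hx⟩
  obtain ⟨K, hK, hKs, hKH⟩ := exists_center (pullback.snd f h) VN hVN
  obtain ⟨I₁, N', hN'N, hI₁, hTN', hI₁K⟩ := exists_center_near (b₁ ⁻¹ᵁ V)
    (QuasiCompact.isCompact_preimage (f := b₁) V V.2 hV) N hN _ isClosed_closure hTN K hK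
  let b₂ := BlowUpExist.ChartIdx.blowUpHom I₁
  have hb₂ : BlowUp.IsBlowUp b₂ I₁ := BlowUpExist.ChartIdx.isBlowUp_blowUpHom
  obtain ⟨I, hI, hIs, hb⟩ := BlowUpComp4.exists_isBlowUp_comp hb₁ hC hI₁.1 hb₂
  have hIs' : (I.support : Set Y) = (V : Set Y)ᶜ := by
    rw [hIs, hCs]
    refine Set.union_eq_self_of_subset_right ?_
    rintro _ ⟨y, hy, rfl⟩
    exact fun hyV => Set.disjoint_left.1 hI₁.2 hy hyV
  refine ⟨I, _, b₂ ≫ b₁, hb, hI, hIs', b₂ ⁻¹ᵁ N', ?_, fun Z a s hS => ?_⟩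
  · refine closure_minimal (t := b₂ ⁻¹' closure (b₁ ⁻¹' T)) ?_ (isClosed_closure.preimage b₂.continuous) |>.trans
      (Set.preimage_mono hTN')
    intro x hx
    exact subset_closure hx
  haveI : QuasiCompact (s ⁻¹ᵁ ((b₂ ≫ b₁) ⁻¹ᵁ V)).ι := by
    rw [cmpl_eq hIs' (b₂ ≫ b₁)]; exact EffCartier.quasiCompact_preimage_interior hb.1 _
  let g : ((b₂ ⁻¹ᵁ N' : _) : Scheme.{u}) ⟶ (N : Scheme.{u}) := (b₂ ∣_ N') ≫ Y₁.homOfLE hN'N
  have hg : g ≫ N.ι = (b₂ ⁻¹ᵁ N').ι ≫ b₂ := by simp [g, morphismRestrict_ι]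
  obtain ⟨a', hS'⟩ := isStrict_restrict hS (b₂ ⁻¹ᵁ N') h g (by rw [reassoc_of% hg])
  have heff : BlowUp.IsEffCartierIdeal (K.comap g) := by
    rw [Scheme.IdealSheafData.comap_comp, ← hI₁K, ← Scheme.IdealSheafData.comap_comp, morphismRestrict_ι,
      Scheme.IdealSheafData.comap_comp]
    exact BlowUpExist.isEffCartierIdeal_comap_of_isOpenImmersion hb₂.1 _
  haveI := hKH g a' _ hS' heff
  exact isIso_of_proper hS' (dense_preimage hKs heff)

end Groth.Agent.AdmOpen4
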