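import Groth.Agent.Lib.AdmOpen4.Data
import Groth.Agent.Lib.AdmOpen4.Extend
import Groth.Agent.Lib.EffCartier.Dense
import Groth.Agent.Lib.BlowUp26.Basic

/-!
# One affine piece of a strict transform becomes an open immersion
-/

set_option autoImplicit false
set_option backward.isDefEq.respectTransparency false
universe u

open CategoryTheory CategoryTheory.Limits AlgebraicGeometry TopologicalSpace
open scoped nonZeroDivisors

namespace Groth.Agent.AdmOpen4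

variable {P X : Scheme.{u}}

theorem isAdmissibleFor_prod (V : X.Opens) {ι : Type*} (s : Finset ι) {K : ι → X.IdealSheafData}
    (hK : ∀ i ∈ s, BlowUp.IsAdmissibleFor V (K i)) : BlowUp.IsAdmissibleFor V (∏ i ∈ s, K i) := by
  classical
  induction s using Finset.induction with
  | empty =>
    refine ⟨fun U => ?_, ?_⟩
    · rw [Finset.prod_empty, Scheme.IdealSheafData.one_eq_top, Scheme.IdealSheafData.ideal_top]
      exact ⟨{1}, by simp⟩
    · rw [Finset.prod_empty, Scheme.IdealSheafData.one_eq_top, Scheme.IdealSheafData.support_top]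
      exact Set.empty_disjoint _
  | @insert a s ha ih =>
    rw [Finset.prod_insert ha]
    obtain ⟨h1, h2⟩ := hK a (Finset.mem_insert_self a s)
    obtain ⟨h3, h4⟩ := ih fun i hi => hK i (Finset.mem_insert_of_mem hi)
    refine ⟨fun U => ?_, ?_⟩
    · rw [Scheme.IdealSheafData.ideal_mul, Pi.mul_apply]
      exact Ideal.FG.mul (h1 U) (h3 U)
    · rw [Scheme.IdealSheafData.support_mul, Closeds.coe_sup]
      exact Set.disjoint_union_left.2 ⟨h2, h4⟩

theorem isAdmissibleFor_mul {V : X.Opens} {A B : X.IdealSheafData} (hA : BlowUp.IsAdmissibleFor V A)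
    (hB : BlowUp.IsAdmissibleFor V B) : BlowUp.IsAdmissibleFor V (A * B) := by
  refine ⟨fun U => ?_, ?_⟩
  · rw [Scheme.IdealSheafData.ideal_mul, Pi.mul_apply]
    exact Ideal.FG.mul (hA.1 U) (hB.1 U)
  · rw [Scheme.IdealSheafData.support_mul, Closeds.coe_sup]
    exact Set.disjoint_union_left.2 ⟨hA.2, hB.2⟩

theorem isEff_of_dvd {X' : Scheme.{u}} {g : X' ⟶ X} {A B : X.IdealSheafData} (h : A ∣ B)
    (hB : BlowUp.IsEffCartierIdeal (B.comap g)) : BlowUp.IsEffCartierIdeal (A.comap g) := by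
  obtain ⟨C, rfl⟩ := h
  rw [EffCartier.comap_mul] at hB
  exact EffCartier.isEffCartierIdeal_of_mul_left hB

theorem map_sup_span {A B : Type u} [CommRing A] [CommRing B] (φ : A →+* B) {E : Ideal A} {f : A}
    (hE : E.map φ = Ideal.span {φ f}) (m : ℕ) {ι : Type*} (g : ι → A) :
    (E ^ m ⊔ Ideal.span (Set.range g)).map φ =
      Ideal.span (Set.range (Option.elim' (φ f ^ m) fun j => φ (g j))) := by
  rw [Ideal.map_sup, Ideal.map_pow, hE, Ideal.span_singleton_pow, Ideal.map_span, ← Set.range_comp, ← Ideal.span_union]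
  congr 1
  ext x
  simp only [Set.mem_union, Set.mem_singleton_iff, Set.mem_range, Function.comp_apply]
  constructor
  · rintro (rfl | ⟨j, rfl⟩)
    exacts [⟨none, rfl⟩, ⟨some j, rfl⟩]
  · rintro ⟨_ | j, rfl⟩
    exacts [Or.inl rfl, Or.inr ⟨j, rfl⟩]

/-- One of finitely many generators of an invertible ideal generates it near a point. -/
theorem exists_gen_nhd {I : X.IdealSheafData} (hI : BlowUp.IsEffCartierIdeal I) (W₀ : X.affineOpens) {ι : Type*}
    [Finite ι] (z : ι → Γ(X, W₀.1)) (hz : I.ideal W₀ = Ideal.span (Set.range z)) {x : X} (hx : x ∈ W₀.1) :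
    ∃ (W : X.affineOpens) (h : W.1 ≤ W₀.1) (i : ι), x ∈ W.1 ∧
      EffCartier.IsEqn I W (X.presheaf.map (homOfLE h).op (z i)) := by
  cases nonempty_fintype ι
  obtain ⟨W, hxW, hW, d, hd⟩ := EffCartier.exists_isEqn hI hx
  let ρ := (X.presheaf.map (homOfLE hW).op).hom
  have hIW : I.ideal W = Ideal.span (Set.range fun i => ρ (z i)) := by
    rw [← I.map_ideal (U := W) (V := W₀) hW, hz, Ideal.map_span, ← Set.range_comp]; rfl
  have hdvd : ∀ i, d ∣ ρ (z i) := fun i => by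
    rw [← Ideal.mem_span_singleton, ← hd.ideal_eq, hIW]; exact Ideal.subset_span ⟨i, rfl⟩
  choose w hw using hdvd
  obtain ⟨r, hr⟩ := Ideal.mem_span_range_iff_exists_fun.1
    (show d ∈ Ideal.span (Set.range fun i => ρ (z i)) by rw [← hIW, hd.ideal_eq]; exact Ideal.mem_span_singleton_self d)
  have h1 : ∑ i, r i * w i = 1 := (mul_cancel_left_mem_nonZeroDivisors hd.mem).mp (by
    rw [mul_one, Finset.mul_sum]
    exact (Finset.sum_congr rfl fun i _ => by rw [hw i]; ring).trans hr)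
  obtain ⟨i, hi⟩ : ∃ i, x ∈ X.basicOpen (w i) := by
    by_contra hne
    push Not at hne
    have hmem : X.presheaf.germ W.1 x hxW (∑ i, r i * w i) ∈ IsLocalRing.maximalIdeal _ := by
      rw [map_sum]
      refine sum_mem fun i _ => ?_
      rw [map_mul]
      exact Ideal.mul_mem_left _ _ fun hu => hne i ((Scheme.mem_basicOpen _ _ _ hxW).mpr hu)
    rw [h1, map_one] at hmem
    exact (IsLocalRing.notMem_maximalIdeal.mpr isUnit_one) hmem
  refine ⟨X.affineBasicOpen (w i), (X.basicOpen_le _).trans hW, i, hi, ?_⟩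
  have hb := hd.basicOpen (w i)
  let σ := (X.presheaf.map (homOfLE (X.basicOpen_le (w i))).op).hom
  have he : (X.presheaf.map (homOfLE ((X.basicOpen_le (w i)).trans hW)).op) (z i) = σ d * σ (w i) := by
    rw [← map_mul, ← hw i]
    show _ = (X.presheaf.map _ ≫ X.presheaf.map _) (z i)
    rw [← Functor.map_comp]; rfl
  have hu : IsUnit (σ (w i)) := RingedSpace.isUnit_res_basicOpen _ _
  refine ⟨?_, ?_⟩
  · erw [he]; exact mul_mem hb.mem hu.mem_nonZeroDivisors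
  · erw [he, hb.ideal_eq]; exact (Ideal.span_singleton_mul_right_unit hu _).symm

theorem exists_preimage_eq {p : P ⟶ X} {V : X.Opens} [IsOpenImmersion (p ∣_ V)] {X' T : Scheme.{u}} {g : X' ⟶ X}
    {a : T ⟶ P} {s : T ⟶ X'} (hS : IsStrict p g V a s) :
    IsOpenImmersion ((s ⁻¹ᵁ (g ⁻¹ᵁ V)).ι ≫ s) := by
  let q := (p ⁻¹ᵁ V).ι ≫ p
  haveI : IsOpenImmersion q := by
    show IsOpenImmersion ((p ⁻¹ᵁ V).ι ≫ p)
    rw [← morphismRestrict_ι]; infer_instance
  haveI : IsOpenImmersion (pullback.snd q g) :=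
    MorphismProperty.pullback_snd _ _ (inferInstanceAs (IsOpenImmersion q))
  let TV := s ⁻¹ᵁ (g ⁻¹ᵁ V)
  have hlandV : ∀ z : ↥(pullback q g), g (pullback.snd q g z) ∈ V := fun z => by
    rw [← Scheme.Hom.comp_apply, ← pullback.condition, Scheme.Hom.comp_apply]
    exact (pullback.fst q g z).2
  obtain ⟨h, hha, hhs⟩ := hS.univ (pullback q g) (pullback.fst q g ≫ (p ⁻¹ᵁ V).ι) (pullback.snd q g)
    (by rw [Category.assoc]; exact pullback.condition) hlandV
  have hr : Set.range h ⊆ Set.range TV.ι := by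
    rintro _ ⟨z, rfl⟩
    rw [Scheme.Opens.range_ι]
    show g (s (h z)) ∈ V
    rw [← Scheme.Hom.comp_apply h s, hhs]
    exact hlandV z
  let h' : pullback q g ⟶ (TV : Scheme.{u}) := IsOpenImmersion.lift TV.ι h hr
  have hra : Set.range (TV.ι ≫ a) ⊆ Set.range (p ⁻¹ᵁ V).ι := by
    rintro _ ⟨z, rfl⟩
    rw [Scheme.Opens.range_ι]
    show p ((TV.ι ≫ a) z) ∈ V
    rw [← Scheme.Hom.comp_apply, Category.assoc, hS.w]
    exact z.2
  let k : (TV : Scheme.{u}) ⟶ pullback q g := pullback.lift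
    (IsOpenImmersion.lift (p ⁻¹ᵁ V).ι (TV.ι ≫ a) hra) (TV.ι ≫ s)
    (by simp only [q, IsOpenImmersion.lift_fac_assoc, Category.assoc, hS.w])
  haveI := hS.closed
  haveI : IsIso k := by
    refine ⟨h', ?_, ?_⟩
    · rw [← cancel_mono TV.ι, Category.assoc, IsOpenImmersion.lift_fac, Category.id_comp,
        ← cancel_mono (pullback.lift a s hS.w)]
      apply pullback.hom_ext
      · simp only [Category.assoc, pullback.lift_fst, hha, k, pullback.lift_fst_assoc, IsOpenImmersion.lift_fac]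
      · simp only [Category.assoc, pullback.lift_snd, hhs, k]
    · apply pullback.hom_ext
      · rw [← cancel_mono (p ⁻¹ᵁ V).ι]
        simp only [Category.assoc, k, pullback.lift_fst_assoc, IsOpenImmersion.lift_fac, Category.id_comp,
          h', IsOpenImmersion.lift_fac_assoc, hha]
      · simp only [Category.assoc, k, pullback.lift_snd, Category.id_comp, h', IsOpenImmersion.lift_fac_assoc, hhs]
  have : TV.ι ≫ s = k ≫ pullback.snd q g := (pullback.lift_snd _ _ _).symm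
  show IsOpenImmersion (TV.ι ≫ s)
  rw [this]; infer_instance

/-- The affine piece of the strict transform over an affine open of the base change. -/
theorem affine_gen {p : P ⟶ X} {V : X.Opens} {X' T : Scheme.{u}} {g : X' ⟶ X} {a : T ⟶ P} {s : T ⟶ X'}
    (hS : IsStrict p g V a s) (U : X.affineOpens) (Pa : P.affineOpens) (e : Pa.1 ≤ p ⁻¹ᵁ U.1)
    (W : X'.affineOpens) (hW : W.1 ≤ g ⁻¹ᵁ U.1) :
    IsAffineOpen (a ⁻¹ᵁ Pa.1 ⊓ s ⁻¹ᵁ W.1) ∧ Subring.closure
      (Set.range (s.appLE W.1 (a ⁻¹ᵁ Pa.1 ⊓ s ⁻¹ᵁ W.1) inf_le_right).hom ∪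
        Set.range (a.appLE Pa.1 (a ⁻¹ᵁ Pa.1 ⊓ s ⁻¹ᵁ W.1) inf_le_left).hom) = ⊤ := by
  have H : IsPullback (pullback.fst p g) (pullback.snd p g) p g := IsPullback.of_hasPullback _ _
  let Q : (pullback p g).Opens := pullback.fst p g ⁻¹ᵁ Pa.1 ⊓ pullback.snd p g ⁻¹ᵁ W.1
  have haff : IsAffineOpen Q := by
    have : IsAffine U.1.toScheme := U.2
    have : IsAffine W.1.toScheme := W.2
    have : IsAffine Pa.1.toScheme := Pa.2
    exact .of_isIso (Scheme.Hom.isPullback_resLE H hW e (rfl : Q = _)).isoPullback.hom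
  have hpush := (isIso_pushoutSection_iff H hW e (rfl : Q = _)).mp
    (isIso_pushoutSection_of_isAffineOpen H hW e (rfl : Q = _) U.2 W.2 Pa.2)
  haveI := hS.closed
  let L := pullback.lift a s hS.w
  have hD : a ⁻¹ᵁ Pa.1 ⊓ s ⁻¹ᵁ W.1 = L ⁻¹ᵁ Q := by
    rw [Scheme.Hom.preimage_inf, ← Scheme.Hom.comp_preimage, ← Scheme.Hom.comp_preimage, pullback.lift_fst,
      pullback.lift_snd]
  refine ⟨hD ▸ haff.preimage L, ?_⟩
  have hsurj : Function.Surjective (L.appLE Q (a ⁻¹ᵁ Pa.1 ⊓ s ⁻¹ᵁ W.1) hD.le).hom := by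
    have key : ∀ (D : T.Opens) (h : D ≤ L ⁻¹ᵁ Q), D = L ⁻¹ᵁ Q → Function.Surjective (L.appLE Q D h).hom := by
      intro D h he
      subst he
      rw [← Scheme.Hom.app_eq_appLE]
      exact L.app_surjective Q haff
    exact key _ _ hD
  rw [eq_top_iff]
  intro y _
  obtain ⟨y, rfl⟩ := hsurj y
  refine (BlowUp3.subring_eq_top_of_isPushout hpush
    (Subring.comap (L.appLE Q _ hD.le).hom (Subring.closure _)) (fun x => ?_) (fun x => ?_)).ge (Subring.mem_top y) <;>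
  refine Subring.subset_closure ?_
  · first
      | exact Or.inr ⟨x, by
          show _ = ((pullback.fst p g).appLE _ _ _ ≫ L.appLE _ _ _) x
          simp only [Scheme.Hom.appLE_comp_appLE, L, pullback.lift_fst]⟩
      | exact Or.inl ⟨x, by
          show _ = ((pullback.snd p g).appLE _ _ _ ≫ L.appLE _ _ _) x
          simp only [Scheme.Hom.appLE_comp_appLE, L, pullback.lift_snd]⟩
  · first
      | exact Or.inr ⟨x, by
          show _ = ((pullback.fst p g).appLE _ _ _ ≫ L.appLE _ _ _) x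
          simp only [Scheme.Hom.appLE_comp_appLE, L, pullback.lift_fst]⟩
      | exact Or.inl ⟨x, by
          show _ = ((pullback.snd p g).appLE _ _ _ ≫ L.appLE _ _ _) x
          simp only [Scheme.Hom.appLE_comp_appLE, L, pullback.lift_snd]⟩

theorem isEqn_res {X' : Scheme.{u}} {I : X'.IdealSheafData} (hI : BlowUp.IsEffCartierIdeal I) {W W' : X'.affineOpens}
    {f : Γ(X', W.1)} (hf : EffCartier.IsEqn I W f) (h : W'.1 ≤ W.1) :
    EffCartier.IsEqn I W' (X'.presheaf.map (homOfLE h).op f) := by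
  have he : I.ideal W' = Ideal.span {X'.presheaf.map (homOfLE h).op f} := by
    rw [← I.map_ideal (U := W') (V := W) h, hf.ideal_eq, Ideal.map_span, Set.image_singleton]; rfl
  exact ⟨EffCartier.mem_nonZeroDivisors_of_ideal_eq hI W' _ he, he⟩

theorem appLE_res' {X' : Scheme.{u}} (g : X' ⟶ X) (U : X.Opens) {W W' : X'.Opens} (e : W ≤ g ⁻¹ᵁ U) (h : W' ≤ W)
    (x : Γ(X, U)) : X'.presheaf.map (homOfLE h).op (g.appLE U W e x) = g.appLE U W' (h.trans e) x :=
  DFunLike.congr_fun (congrArg CommRingCat.Hom.hom (g.appLE_map e (homOfLE h).op)) x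

/-- The theorem for one affine piece. -/
theorem exists_piece [CompactSpace X] [QuasiSeparatedSpace X] (p : P ⟶ X) [LocallyOfFiniteType p]
    (V : X.Opens) (hV : IsCompact (V : Set X)) [IsOpenImmersion (p ∣_ V)]
    (E : X.IdealSheafData) (hE : BlowUp.IsFiniteTypeIdeal E) (hEV : (E.support : Set X) = (V : Set X)ᶜ)
    (U : X.affineOpens) (Pa : P.affineOpens) (e : Pa.1 ≤ p ⁻¹ᵁ U.1) :
    ∃ K : X.IdealSheafData, BlowUp.IsAdmissibleFor V K ∧
      ∀ {X' T : Scheme.{u}} (g : X' ⟶ X) (a : T ⟶ P) (s : T ⟶ X'), IsStrict p g V a s →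
        BlowUp.IsEffCartierIdeal ((E * K).comap g) → IsOpenImmersion ((a ⁻¹ᵁ Pa.1).ι ≫ s) := by
  classical
  let R := Γ(X, U.1)
  let α := p.appLE U.1 Pa.1 e
  let EU : Ideal R := E.ideal U
  obtain ⟨S, hS⟩ := hE U
  have hbV : ∀ f ∈ EU, X.basicOpen f ≤ V := fun f hf x hx => by
    by_contra hxV
    exact AdmBlowUp4.basicOpen_mem_support hf (hEV.ge hxV) hx
  have hft : RingHom.FiniteType α.hom := LocallyOfFiniteType.finiteType_appLE (f := p) U.2 Pa.2 e
  letI : Algebra R Γ(P, Pa.1) := α.hom.toAlgebra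
  obtain ⟨G, hG⟩ := (show Algebra.FiniteType R Γ(P, Pa.1) from hft).out
  let t : ↥(G : Set Γ(P, Pa.1)) → Γ(P, Pa.1) := Subtype.val
  have ht : Subring.closure (Set.range α.hom ∪ Set.range t) = ⊤ := by
    have h := congrArg Subalgebra.toSubring hG
    rw [Algebra.adjoin_eq_ring_closure, Algebra.top_toSubring] at h
    rw [Subtype.range_coe]
    exact h
  haveI : Finite (G : Set Γ(P, Pa.1)) := G.finite_toSet.to_subtype
  have hfE : ∀ f : ↥(S : Set R), f.1 ∈ EU := fun f => hS.le (Ideal.subset_span f.2)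
  let C : ∀ f : (S : Set R), Chart α.hom f.1 t := fun f =>
    (exists_chart p V U Pa e f.1 (hbV f.1 (hfE f)) t).some
  let m := fun f => (C f).M + 1
  let I₁ : ↥(S : Set R) → Ideal R := fun f => EU ^ m f ⊔ Ideal.span (Set.range (C f).g)
  let J : ∀ f : (S : Set R), (C f).ι → Ideal R := fun f j =>
    denomIdeal EU (I₁ f) ((C f).N j) (m f * (C f).N j) f.1 ((C f).g j) ((C f).b j)
  have hI₁fg : ∀ f, (I₁ f).FG := fun f =>
    haveI := (C f).fin
    Submodule.FG.sup (Ideal.FG.pow (hE U)) (Submodule.fg_span (Set.finite_range _))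
  have hJfg : ∀ f j, (J f j).FG := fun f j => fg_denomIdeal (hE U) (hI₁fg f) _ _ _ _ _
  have hdisj : ∀ (I : Ideal R) (n : ℕ), EU ^ n ≤ I →
      Disjoint (X.zeroLocus (U := U.1) (I : Set R) ∩ U.1) (V : Set X) := by
    intro I n hn
    rw [Set.disjoint_left]
    rintro x ⟨hx, hxU⟩ hxV
    have hxE : x ∉ (E.support : Set X) := fun h => hEV.le h hxV
    rw [SetLike.mem_coe, E.mem_support_iff_of_mem hxU, Scheme.mem_zeroLocus_iff] at hxE
    push Not at hxE
    obtain ⟨f, hf, hxf⟩ := hxE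
    rw [Scheme.mem_zeroLocus_iff] at hx
    rcases Nat.eq_zero_or_pos n with rfl | hn0
    · rw [pow_zero, Ideal.one_eq_top] at hn
      exact hx 1 (hn Submodule.mem_top) (by rw [Scheme.basicOpen_of_isUnit _ isUnit_one]; exact hxU)
    · refine hx (f ^ n) (hn (Ideal.pow_mem_pow hf n)) ?_
      rw [show X.basicOpen (f ^ n) = X.basicOpen f from RingedSpace.basicOpen_pow X.toRingedSpace f n hn0]
      exact hxf
  have hK₁ : ∀ f, ∃ K : X.IdealSheafData, BlowUp.IsAdmissibleFor V K ∧ K.ideal U = I₁ f := fun f =>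
    exists_extension V hV U (I₁ f) (hI₁fg f) (hdisj _ (m f) le_sup_left)
  have hK₂ : ∀ f j, ∃ K : X.IdealSheafData, BlowUp.IsAdmissibleFor V K ∧ K.ideal U = J f j := fun f j =>
    exists_extension V hV U (J f j) (hJfg f j) (hdisj _ _ (pow_le_denomIdeal (m := m f) le_sup_left _ _ _))
  choose K₁ hK₁a hK₁U using hK₁
  choose K₂ hK₂a hK₂U using hK₂
  haveI : ∀ f, Fintype (C f).ι := fun f => (C f).fin
  refine ⟨∏ f, (K₁ f * ∏ j, K₂ f j), isAdmissibleFor_prod V _ fun f _ =>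
    isAdmissibleFor_mul (hK₁a f) (isAdmissibleFor_prod V _ fun j _ => hK₂a f j), ?_⟩
  intro X' T g a s hStr hEK
  have hEE : BlowUp.IsEffCartierIdeal (E.comap g) := isEff_of_dvd (dvd_mul_right _ _) hEK
  have hE₁ : ∀ f, BlowUp.IsEffCartierIdeal ((K₁ f).comap g) := fun f =>
    isEff_of_dvd (dvd_mul_of_dvd_right ((dvd_mul_right _ _).trans (Finset.dvd_prod_of_mem _ (Finset.mem_univ f))) _) hEK
  have hE₂ : ∀ f j, BlowUp.IsEffCartierIdeal ((K₂ f j).comap g) := fun f j =>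
    isEff_of_dvd (dvd_mul_of_dvd_right (((Finset.dvd_prod_of_mem _ (Finset.mem_univ j)).trans (dvd_mul_left _ _)).trans
      (Finset.dvd_prod_of_mem _ (Finset.mem_univ f))) _) hEK
  have hTV : g ⁻¹ᵁ V = EffCartier.cmpl (E.comap g) := by
    rw [← BlowUp26.preimage_cmpl_eq]
    congr 1
    ext1
    show (V : Set X) = ((E.support : Set X))ᶜ
    rw [hEV, compl_compl]
  haveI hTVq : QuasiCompact (s ⁻¹ᵁ (g ⁻¹ᵁ V)).ι := by
    rw [hTV]; exact EffCartier.quasiCompact_preimage_interior hEE s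
  haveI := hStr.dense
  let Tα := a ⁻¹ᵁ Pa.1
  have hrange : Set.range (Tα.ι ≫ s) ⊆ Set.range (g ⁻¹ᵁ U.1).ι := by
    rintro _ ⟨z, rfl⟩
    rw [Scheme.Opens.range_ι]
    show g (s z.1) ∈ U.1
    rw [← Scheme.Hom.comp_apply s g, ← hStr.w]
    exact e z.2
  let q := IsOpenImmersion.lift (g ⁻¹ᵁ U.1).ι (Tα.ι ≫ s) hrange
  suffices h : IsOpenImmersion q by
    show IsOpenImmersion (Tα.ι ≫ s)
    rw [← IsOpenImmersion.lift_fac (g ⁻¹ᵁ U.1).ι (Tα.ι ≫ s) hrange]; infer_instance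
  -- the local statement
  have hlocal : ∀ x ∈ g ⁻¹ᵁ U.1, ∃ W : X'.affineOpens, x ∈ W.1 ∧ W.1 ≤ g ⁻¹ᵁ U.1 ∧
      IsOpenImmersion ((a ⁻¹ᵁ Pa.1 ⊓ s ⁻¹ᵁ W.1).ι ≫ s) := by
    intro x hx
    obtain ⟨_, ⟨W₀, hW₀, rfl⟩, hxW₀, hW₀U⟩ :=
      X'.isBasis_affineOpens.exists_subset_of_mem_open hx (g ⁻¹ᵁ U.1).2
    -- a generator of the exceptional ideal
    obtain ⟨W₁, h₁, f, hxW₁, hf⟩ := exists_gen_nhd hEE ⟨W₀, hW₀⟩ (fun f : (S : Set R) => g.appLE U.1 W₀ hW₀U f.1)
      (by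
        rw [EffCartier.comap_ideal E g U ⟨W₀, hW₀⟩ hW₀U, ← hS, Ideal.map_span]
        congr 1
        ext y
        simp only [Set.mem_image, Set.mem_range, Subtype.exists]
        tauto) hxW₀
    rw [appLE_res'] at hf
    have e₁ : W₁.1 ≤ g ⁻¹ᵁ U.1 := h₁.trans hW₀U
    have hEmap : ∀ (W : X'.affineOpens) (h : W.1 ≤ W₁.1),
        EU.map (g.appLE U.1 W.1 (h.trans e₁)).hom = Ideal.span {g.appLE U.1 W.1 (h.trans e₁) f.1} := fun W h => by
      have h' := (isEqn_res hEE hf h).ideal_eq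
      rw [EffCartier.comap_ideal E g U W (h.trans e₁), appLE_res'] at h'
      exact h'
    obtain ⟨W₂, h₂, o, hxW₂, ho⟩ := exists_gen_nhd (hE₁ f) W₁
      (Option.elim' (g.appLE U.1 W₁.1 e₁ f.1 ^ m f) fun j => g.appLE U.1 W₁.1 e₁ ((C f).g j))
      (by
        rw [EffCartier.comap_ideal (K₁ f) g U W₁ e₁, hK₁U]
        exact map_sup_span (g.appLE U.1 W₁.1 e₁).hom (hEmap W₁ le_rfl) (m f) _) hxW₁
    have e₂ : W₂.1 ≤ g ⁻¹ᵁ U.1 := h₂.trans e₁
    -- general facts over a small affine open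
    have hfacts : ∀ (W : X'.affineOpens) (h : W.1 ≤ W₁.1), ∀ (hWU : W.1 ≤ g ⁻¹ᵁ U.1),
        IsAffineOpen (a ⁻¹ᵁ Pa.1 ⊓ s ⁻¹ᵁ W.1) ∧
        (s.appLE W.1 (a ⁻¹ᵁ Pa.1 ⊓ s ⁻¹ᵁ W.1) inf_le_right) (g.appLE U.1 W.1 hWU f.1) ∈
          Γ(T, a ⁻¹ᵁ Pa.1 ⊓ s ⁻¹ᵁ W.1)⁰ ∧
        X'.basicOpen (g.appLE U.1 W.1 hWU f.1) = g ⁻¹ᵁ V ⊓ W.1 := by
      intro W h hWU
      obtain ⟨haff, -⟩ := affine_gen hStr U Pa e W hWU
      have hb : X'.basicOpen (g.appLE U.1 W.1 hWU f.1) = g ⁻¹ᵁ V ⊓ W.1 := by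
        rw [hTV]
        have h' := EffCartier.basicOpen_eq (isEqn_res hEE hf h)
        rw [appLE_res'] at h'
        exact h'
      refine ⟨haff, ?_, hb⟩
      rw [mem_nonZeroDivisors_iff_right]
      intro y hy
      refine (s ⁻¹ᵁ (g ⁻¹ᵁ V)).ι.app_injective _ ?_
      rw [map_zero]
      let O := (s ⁻¹ᵁ (g ⁻¹ᵁ V)).ι ''ᵁ ((s ⁻¹ᵁ (g ⁻¹ᵁ V)).ι ⁻¹ᵁ (a ⁻¹ᵁ Pa.1 ⊓ s ⁻¹ᵁ W.1))
      have hu : IsUnit ((s ⁻¹ᵁ (g ⁻¹ᵁ V)).ι.app (a ⁻¹ᵁ Pa.1 ⊓ s ⁻¹ᵁ W.1)
          (s.appLE W.1 (a ⁻¹ᵁ Pa.1 ⊓ s ⁻¹ᵁ W.1) inf_le_right (g.appLE U.1 W.1 hWU f.1))) := by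
        have hO : O ≤ T.basicOpen (s.appLE W.1 (a ⁻¹ᵁ Pa.1 ⊓ s ⁻¹ᵁ W.1) inf_le_right (g.appLE U.1 W.1 hWU f.1)) := by
          rw [Scheme.basicOpen_appLE, hb]
          intro z hz
          simp only [O, Scheme.Hom.image_preimage_eq_opensRange_inf, Scheme.Opens.opensRange_ι] at hz
          exact ⟨hz.2, hz.1, hz.2.2⟩
        rw [Scheme.Opens.ι_app, Subsingleton.elim (homOfLE _) (homOfLE hO ≫ homOfLE (T.basicOpen_le _)), op_comp,
          Functor.map_comp]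
        exact IsUnit.map (T.presheaf.map (homOfLE hO).op).hom (RingedSpace.isUnit_res_basicOpen _ _)
      have h0 := congrArg ((s ⁻¹ᵁ (g ⁻¹ᵁ V)).ι.app (a ⁻¹ᵁ Pa.1 ⊓ s ⁻¹ᵁ W.1)) hy
      rw [map_mul, map_zero] at h0
      exact hu.mul_left_eq_zero.1 h0
    rcases o with _ | j
    · -- the power of the generator generates
      refine ⟨W₂, hxW₂, e₂, ?_⟩
      obtain ⟨haff, hnzd, hb⟩ := hfacts W₂ h₂ e₂
      have hpow : EffCartier.IsEqn ((K₁ f).comap g) W₂ (g.appLE U.1 W₂.1 e₂ f.1 ^ m f) := by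
        have h' := ho
        rw [Option.elim'_none, map_pow, appLE_res'] at h'
        exact h'
      have hγ : ∀ j, ∃ γ, g.appLE U.1 W₂.1 e₂ ((C f).g j) = g.appLE U.1 W₂.1 e₂ f.1 ^ m f * γ := fun j => by
        have hmem : g.appLE U.1 W₂.1 e₂ ((C f).g j) ∈ ((K₁ f).comap g).ideal W₂ := by
          rw [EffCartier.comap_ideal (K₁ f) g U W₂ e₂, hK₁U]
          exact Ideal.mem_map_of_mem _ (Ideal.mem_sup_right (Ideal.subset_span ⟨j, rfl⟩))
        rw [hpow.ideal_eq, Ideal.mem_span_singleton] at hmem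
        exact hmem
      choose γ hγ using hγ
      have hcomm₂ : (a.appLE Pa.1 (a ⁻¹ᵁ Pa.1 ⊓ s ⁻¹ᵁ W₂.1) inf_le_left).hom.comp α.hom =
          (s.appLE W₂.1 (a ⁻¹ᵁ Pa.1 ⊓ s ⁻¹ᵁ W₂.1) inf_le_right).hom.comp (g.appLE U.1 W₂.1 e₂).hom := by
        simp only [α, ← CommRingCat.hom_comp, Scheme.Hom.appLE_comp_appLE, hStr.w]
      letI := (C f).fin
      have hu := isUnit_of_gen (ι := (C f).ι) (g := (C f).g) (c := (C f).c) (M := (C f).M) (γ := γ) (g.appLE U.1 W₂.1 e₂).hom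
        (s.appLE W₂.1 (a ⁻¹ᵁ Pa.1 ⊓ s ⁻¹ᵁ W₂.1) inf_le_right).hom α.hom
        (a.appLE Pa.1 (a ⁻¹ᵁ Pa.1 ⊓ s ⁻¹ᵁ W₂.1) inf_le_left).hom
        hcomm₂ (C f).hc hnzd hγ
      have hle : a ⁻¹ᵁ Pa.1 ⊓ s ⁻¹ᵁ W₂.1 ≤ s ⁻¹ᵁ (g ⁻¹ᵁ V) := fun z hz => by
        have := Scheme.basicOpen_of_isUnit _ hu
        rw [Scheme.basicOpen_appLE] at this
        have hz' := (this.ge hz).2
        rw [hb] at hz'
        exact hz'.1
      haveI := exists_preimage_eq hStr
      rw [← T.homOfLE_ι hle, Category.assoc]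
      infer_instance
    · -- a denominator generates
      obtain ⟨W, hxW, hW, d, hd⟩ := EffCartier.exists_isEqn (hE₂ f j) (x := x) (W := W₂.1) hxW₂
      have eW : W.1 ≤ g ⁻¹ᵁ U.1 := hW.trans e₂
      refine ⟨W, hxW, eW, ?_⟩
      obtain ⟨haff, hnzd, -⟩ := hfacts W (hW.trans h₂) eW
      obtain ⟨-, hgen⟩ := affine_gen hStr U Pa e W eW
      have hI : EffCartier.IsEqn ((K₁ f).comap g) W (g.appLE U.1 W.1 eW ((C f).g j)) := by
        have h' := isEqn_res (hE₁ f) ho hW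
        rw [Option.elim'_some, appLE_res', appLE_res'] at h'
        exact h'
      have hfR : g.appLE U.1 W.1 eW f.1 ∈ Γ(X', W.1)⁰ := by
        have h' := (isEqn_res hEE hf (hW.trans h₂)).mem
        rwa [appLE_res'] at h'
      have hdd : (J f j).map (g.appLE U.1 W.1 eW).hom = Ideal.span {d} := by
        rw [← hd.ideal_eq, EffCartier.comap_ideal (K₂ f j) g U W eW, hK₂U]
      let D := a ⁻¹ᵁ Pa.1 ⊓ s ⁻¹ᵁ W.1
      let θ := s.appLE W.1 D inf_le_right
      have hcomm : α ≫ a.appLE Pa.1 D inf_le_left = g.appLE U.1 W.1 eW ≫ θ := by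
        simp only [α, θ, Scheme.Hom.appLE_comp_appLE, hStr.w]
      obtain ⟨w, hw⟩ := exists_isLocalization (g.appLE U.1 W.1 eW).hom θ.hom α.hom (a.appLE Pa.1 D inf_le_left).hom
        (by rw [← CommRingCat.hom_comp, ← CommRingCat.hom_comp, hcomm]) (e := m f * (C f).N j) rfl ht
        ((C f).hb j) (hEmap W (hW.trans h₂))
        ((congrArg (Ideal.map (g.appLE U.1 W.1 eW).hom) (hK₁U f)).symm.trans
          ((EffCartier.comap_ideal (K₁ f) g U W eW).symm.trans hI.ideal_eq))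
        (Ideal.mem_sup_left (Ideal.pow_mem_pow (hfE f) _)) hI.mem hfR hnzd hdd hgen
        ((C f).σ j) ((C f).hσ j)
        (fun Tr _ a₀ ψ hψ hu => by
          let u₀ : Spec (CommRingCat.of Tr) ⟶ P := Spec.map (CommRingCat.ofHom ψ) ≫ Pa.2.fromSpec
          let v₀ : Spec (CommRingCat.of Tr) ⟶ X' := Spec.map (CommRingCat.ofHom a₀) ≫ W.2.fromSpec
          have huv : u₀ ≫ p = v₀ ≫ g := by
            simp only [u₀, v₀, Category.assoc, ← U.2.SpecMap_appLE_fromSpec p Pa.2 e,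
              ← U.2.SpecMap_appLE_fromSpec g W.2 eW]
            simpa only [Spec.map_comp, Category.assoc, α] using congrArg (Spec.map · ≫ U.2.fromSpec) (CommRingCat.hom_ext (f := α ≫ CommRingCat.ofHom ψ)
              (g := g.appLE U.1 W.1 eW ≫ CommRingCat.ofHom a₀) hψ)
          have hland : ∀ z, g (v₀ z) ∈ V := fun z => by
            have h1 : v₀ z ∈ X'.basicOpen (g.appLE U.1 W.1 eW f.1) := by
              show Spec.map (CommRingCat.ofHom a₀) z ∈ W.2.fromSpec ⁻¹ᵁ X'.basicOpen (g.appLE U.1 W.1 eW f.1)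
              rw [W.2.fromSpec_preimage_basicOpen]
              exact fun hz => z.isPrime.ne_top (Ideal.eq_top_of_isUnit_mem _ hz hu)
            rw [(hfacts W (hW.trans h₂) eW).2.2] at h1
            exact h1.1
          obtain ⟨h, hha, hhs⟩ := hStr.univ _ u₀ v₀ huv hland
          have hr : Set.range h ⊆ Set.range haff.fromSpec := by
            rintro _ ⟨z, rfl⟩
            rw [haff.range_fromSpec]
            refine ⟨?_, ?_⟩
            · show a (h z) ∈ Pa.1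
              rw [← Scheme.Hom.comp_apply h a, hha]
              exact Pa.2.range_fromSpec.le ⟨_, rfl⟩
            · show s (h z) ∈ W.1
              rw [← Scheme.Hom.comp_apply h s, hhs]
              exact W.2.range_fromSpec.le ⟨_, rfl⟩
          refine ⟨(Spec.preimage (IsOpenImmersion.lift haff.fromSpec h hr)).hom, ?_⟩
          refine congrArg CommRingCat.Hom.hom (Spec.map_injective
            (a₁ := θ ≫ Spec.preimage (IsOpenImmersion.lift haff.fromSpec h hr)) (a₂ := CommRingCat.ofHom a₀) ?_)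
          rw [← cancel_mono W.2.fromSpec, Spec.map_comp, Spec.map_preimage, Category.assoc,
            W.2.SpecMap_appLE_fromSpec s haff inf_le_right, IsOpenImmersion.lift_fac_assoc, hhs])
      haveI : IsOpenImmersion (Spec.map θ) := by
        letI := θ.hom.toAlgebra
        exact IsOpenImmersion.of_isLocalization w
      haveI : IsAffine D.toScheme := haff
      have : D.ι ≫ s = haff.isoSpec.hom ≫ Spec.map θ ≫ W.2.fromSpec := by
        rw [W.2.SpecMap_appLE_fromSpec s haff inf_le_right, ← Category.assoc, haff.isoSpec_hom_fromSpec]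
      show IsOpenImmersion (D.ι ≫ s)
      rw [this]; infer_instance
  choose Wf hWf using fun (x : ↥(g ⁻¹ᵁ U.1)) => hlocal x.1 x.2
  refine (IsZariskiLocalAtTarget.iff_of_iSup_eq_top (P := @IsOpenImmersion)
    (fun x : ↥(g ⁻¹ᵁ U.1) => (g ⁻¹ᵁ U.1).ι ⁻¹ᵁ (Wf x).1) (top_le_iff.1 fun x _ => Opens.mem_iSup.2 ⟨x, (hWf x).1⟩)).2 fun x => ?_
  haveI := (hWf x).2.2
  let O' : (g ⁻¹ᵁ U.1).toScheme.Opens := (g ⁻¹ᵁ U.1).ι ⁻¹ᵁ (Wf x).1
  haveI : IsOpenImmersion ((q ⁻¹ᵁ O').ι ≫ q ≫ (g ⁻¹ᵁ U.1).ι) := by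
    rw [IsOpenImmersion.lift_fac]
    let j := (q ⁻¹ᵁ O').ι ≫ Tα.ι
    have hj : Set.range j ⊆ Set.range (a ⁻¹ᵁ Pa.1 ⊓ s ⁻¹ᵁ (Wf x).1).ι := by
      rintro _ ⟨z, rfl⟩
      rw [Scheme.Opens.range_ι]
      refine ⟨z.1.2, ?_⟩
      have h : (q ≫ (g ⁻¹ᵁ U.1).ι) z.1 ∈ (Wf x).1 := z.2
      rw [IsOpenImmersion.lift_fac] at h
      exact h
    rw [← Category.assoc]
    show IsOpenImmersion (j ≫ s)
    rw [← IsOpenImmersion.lift_fac _ j hj, Category.assoc]
    infer_instance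
  have h2 : IsOpenImmersion ((q ∣_ O') ≫ O'.ι ≫ (g ⁻¹ᵁ U.1).ι) := by
    rw [morphismRestrict_ι_assoc]; infer_instance
  exact IsOpenImmersion.of_comp _ (O'.ι ≫ (g ⁻¹ᵁ U.1).ι)

end Groth.Agent.AdmOpen4
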