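import Mathlib.RingTheory.Localization.Away.Basic
import Mathlib.RingTheory.Finiteness.Basic
import Mathlib.RingTheory.Ideal.Operations
import Mathlib.RingTheory.Finiteness.Ideal
import Mathlib.Tactic.LinearCombination

/-!
# Making a birational finite type algebra an open immersion by a change of rings
-/

set_option autoImplicit false
universe u

open scoped nonZeroDivisors

namespace Groth.Agent.AdmOpen4

variable {R A R' A' : Type u} [CommRing R] [CommRing A] [CommRing R'] [CommRing A']

/-- The ideal to be added for one denominator. -/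
def denomIdeal {κ : Type*} (E I₁ : Ideal R) (N e : ℕ) (f g : R) (b : κ → R) : Ideal R :=
  Ideal.span (insert (g ^ N * f ^ e) (Set.range fun k => b k * f ^ e)) ⊔ E ^ e * I₁ ^ N

theorem pow_le_denomIdeal {κ : Type*} {E I₁ : Ideal R} {m N e : ℕ} (hI₁ : E ^ m ≤ I₁) (f g : R) (b : κ → R) :
    E ^ (e + m * N) ≤ denomIdeal E I₁ N e f g b := by
  rw [pow_add, pow_mul]
  exact le_sup_of_le_right (Ideal.mul_mono le_rfl (Ideal.pow_right_mono hI₁ N))

theorem fg_denomIdeal {κ : Type*} [Finite κ] {E I₁ : Ideal R} (hE : E.FG) (hI₁ : I₁.FG) (N e : ℕ) (f g : R) (b : κ → R) :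
    (denomIdeal E I₁ N e f g b).FG := by
  refine Submodule.FG.sup (Submodule.fg_span ((Set.finite_range _).insert _)) ?_
  exact Ideal.FG.mul (Ideal.FG.pow hE) (Ideal.FG.pow hI₁)

variable (φ : R →+* R') (θ : R' →+* A') (α : R →+* A) (χ : A →+* A')

/-- Where the power of `f` generates, `f` is invertible in the strict transform. -/
theorem isUnit_of_gen (hcomm : χ.comp α = θ.comp φ) {f : R} {M : ℕ} {ι : Type*} [Fintype ι] {g : ι → R} {c : ι → A}
    (hc : ∑ j, c j * α (g j) = α f ^ M) (hf : θ (φ f) ∈ A'⁰) {γ : ι → R'}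
    (hγ : ∀ j, φ (g j) = φ f ^ (M + 1) * γ j) : IsUnit (θ (φ f)) := by
  have hc' : ∑ j, χ (c j) * θ (φ (g j)) = θ (φ f) ^ M := by
    have := congrArg χ hc
    simp only [map_sum, map_mul, map_pow] at this
    simp only [← RingHom.comp_apply, ← hcomm]
    exact this
  refine IsUnit.of_mul_eq_one (∑ j, χ (c j) * θ (γ j)) ((mul_cancel_left_mem_nonZeroDivisors (pow_mem hf M)).mp ?_)
  rw [mul_one]
  conv_rhs => rw [← hc']
  rw [← mul_assoc, ← pow_succ, Finset.mul_sum]
  exact Finset.sum_congr rfl fun j _ => by rw [hγ, map_mul, map_pow]; ring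

/-- Where a denominator generates, the strict transform is a localization. -/
theorem exists_isLocalization (hcomm : χ.comp α = θ.comp φ)
    {κ : Type*} [Finite κ] {f g : R} {m N e : ℕ} (he : e = m * N) {t : κ → A} {b : κ → R}
    (ht : Subring.closure (Set.range α ∪ Set.range t) = ⊤) (htb : ∀ k, α g ^ N * t k = α (b k))
    {E I₁ : Ideal R} (hE : E.map φ = Ideal.span {φ f}) (hI₁ : I₁.map φ = Ideal.span {φ g}) (hfI : f ^ m ∈ I₁)
    (hg : φ g ∈ R'⁰) (hfR : φ f ∈ R'⁰) (hfA : θ (φ f) ∈ A'⁰)
    {d : R'} (hd : (denomIdeal E I₁ N e f g b).map φ = Ideal.span {d})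
    (hgen : Subring.closure (Set.range θ ∪ Set.range χ) = ⊤)
    (σ : A →+* Localization.Away g) (hσ : σ.comp α = algebraMap R _)
    (hext : ∀ (T : Type u) [CommRing T] (a : R' →+* T) (ψ : A →+* T), ψ.comp α = a.comp φ → IsUnit (a (φ f)) →
      ∃ h : A' →+* T, h.comp θ = a) :
    ∃ w : R', letI := θ.toAlgebra; IsLocalization.Away w A' := by
  have hc : ∀ x, χ (α x) = θ (φ x) := fun x => congrArg (fun h : R →+* A' => h x) hcomm
  obtain ⟨p, hp⟩ : φ g ∣ φ f ^ m := by
    rw [← Ideal.mem_span_singleton, ← hI₁, ← map_pow]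
    exact Ideal.mem_map_of_mem φ hfI
  -- the denominator ideal is `g^N` times an ideal containing a power of `f`
  set S : Ideal R' := Ideal.span (insert (φ f ^ e) (Set.range fun k => φ (b k) * p ^ N)) with hS
  have hfe : φ f ^ e = φ g ^ N * p ^ N := by rw [he, pow_mul, hp, mul_pow]
  have hmap : (denomIdeal E I₁ N e f g b).map φ = Ideal.span {φ g ^ N} * S := by
    rw [denomIdeal, Ideal.map_sup, Ideal.map_mul, Ideal.map_pow, Ideal.map_pow, hE, hI₁, Ideal.map_span,
      Ideal.span_singleton_pow, Ideal.span_singleton_pow, Ideal.span_singleton_mul_span_singleton,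
      Set.image_insert_eq, ← Set.range_comp, hS, Ideal.span_mul_span', Set.singleton_mul, Set.image_insert_eq,
      ← Set.range_comp, sup_eq_left.2]
    · congr 1
      refine congrArg₂ _ (by simp) (congrArg Set.range ?_)
      funext k
      simp only [Function.comp_apply, map_mul, map_pow, hfe]
      ring
    · rw [Ideal.span_singleton_le_iff_mem]
      exact Ideal.subset_span (Or.inl (by simp [mul_comm]))
  have hdS : d ∈ Ideal.span {φ g ^ N} := by
    have h : Ideal.span {φ g ^ N} * S ≤ Ideal.span {φ g ^ N} := Ideal.mul_le_left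
    refine h ?_
    rw [← hmap, hd]; exact Ideal.mem_span_singleton_self d
  obtain ⟨d', rfl⟩ := Ideal.mem_span_singleton.1 hdS
  have hS' : S = Ideal.span {d'} := by
    rw [hmap, ← Ideal.span_singleton_mul_span_singleton] at hd
    exact le_antisymm
      (fun x hx => by
        have := hd.le (Ideal.mul_mem_mul (Ideal.mem_span_singleton_self _) hx)
        rw [Ideal.span_singleton_mul_span_singleton, Ideal.mem_span_singleton] at this
        obtain ⟨y, hy⟩ := this
        exact Ideal.mem_span_singleton.2 ⟨y, (mul_cancel_left_mem_nonZeroDivisors (pow_mem hg N)).mp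
          (hy.trans (mul_assoc _ _ _))⟩)
      ((Ideal.span_singleton_le_iff_mem _).2 (by
        have := hd.ge (Ideal.mul_mem_mul (Ideal.mem_span_singleton_self _) (Ideal.mem_span_singleton_self d'))
        rw [Ideal.mem_span_singleton_mul] at this
        obtain ⟨y, hy, hy'⟩ := this
        exact (mul_cancel_left_mem_nonZeroDivisors (pow_mem hg N)).mp hy' ▸ hy))
  obtain ⟨w, hw⟩ : d' ∣ φ f ^ e := by
    rw [← Ideal.mem_span_singleton, ← hS']; exact Ideal.subset_span (Or.inl rfl)
  have hv : ∀ k, d' ∣ φ (b k) * p ^ N := fun k => by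
    rw [← Ideal.mem_span_singleton, ← hS']; exact Ideal.subset_span (Or.inr ⟨k, rfl⟩)
  choose v hv using hv
  have hd' : d' ∈ R'⁰ := by
    have h : φ f ^ e ∈ R'⁰ := pow_mem hfR e
    rw [hw] at h
    exact (mul_mem_nonZeroDivisors.1 h).1
  have hdA : θ d' ∈ A'⁰ := by
    have h : θ (φ f ^ e) ∈ A'⁰ := by rw [map_pow]; exact pow_mem hfA e
    rw [hw, map_mul] at h
    exact (mul_mem_nonZeroDivisors.1 h).1
  have hkey : ∀ k, θ w * χ (t k) = θ (v k) := fun k => by
    refine (mul_cancel_left_mem_nonZeroDivisors hdA).mp ?_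
    rw [← mul_assoc, ← map_mul, ← map_mul, ← hw, ← hv, hfe, map_mul, map_mul, map_pow, map_pow]
    have h := congrArg χ (htb k)
    rw [map_mul, map_pow, hc, hc] at h
    linear_combination θ p ^ N * h
  have hone : (1 : R') ∈ Ideal.span (insert w (Set.range v)) := by
    have h : d' ∈ Ideal.span {d'} * Ideal.span (insert w (Set.range v)) := by
      refine (le_of_eq_of_le hS'.symm ?_) (Ideal.mem_span_singleton_self d')
      rw [hS, Ideal.span_le]
      rintro x (rfl | ⟨k, rfl⟩)
      · rw [hw]; exact Ideal.mul_mem_mul (Ideal.mem_span_singleton_self _) (Ideal.subset_span (Or.inl rfl))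
      · simp only [hv]
        exact Ideal.mul_mem_mul (Ideal.mem_span_singleton_self _) (Ideal.subset_span (Or.inr ⟨k, rfl⟩))
    rw [Ideal.mem_span_singleton_mul] at h
    obtain ⟨z, hz, hz'⟩ := h
    rw [show (1 : R') = z from (mul_cancel_left_mem_nonZeroDivisors hd').mp ((mul_one _).trans hz'.symm)]
    exact hz
  have hwu : IsUnit (θ w) := by
    rw [← Ideal.span_singleton_eq_top, Ideal.eq_top_iff_one]
    have h := Ideal.mem_map_of_mem θ hone
    rw [Ideal.map_span, map_one] at h
    refine Ideal.span_le.2 ?_ h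
    rintro _ ⟨x, rfl | ⟨k, rfl⟩, rfl⟩
    · exact Ideal.mem_span_singleton_self _
    · exact Ideal.mem_span_singleton.2 ⟨χ (t k), (hkey k).symm⟩
  refine ⟨w, ?_⟩
  letI := θ.toAlgebra
  let ι : Localization.Away w →+* A' := IsLocalization.Away.lift w hwu
  have hι : ∀ x, ι (algebraMap R' _ x) = θ x := fun x => IsLocalization.Away.lift_eq w hwu x
  have hsurj : Function.Surjective ι := by
    rw [← RingHom.range_eq_top, eq_top_iff, ← hgen, Subring.closure_le]
    rintro _ (⟨x, rfl⟩ | ⟨y, rfl⟩)
    · exact ⟨_, hι x⟩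
    · have hy : y ∈ Subring.closure (Set.range α ∪ Set.range t) := by rw [ht]; trivial
      have hle : Subring.closure (Set.range α ∪ Set.range t) ≤ ι.range.comap χ := by
        rw [Subring.closure_le]
        rintro _ (⟨x, rfl⟩ | ⟨k, rfl⟩)
        · exact ⟨_, (hι _).trans (hc x).symm⟩
        · refine ⟨IsLocalization.Away.invSelf w * algebraMap R' (Localization.Away w) (v k),
            hwu.mul_left_cancel ?_⟩
          rw [map_mul, hι, ← mul_assoc, hkey, ← hι w, ← map_mul, IsLocalization.Away.mul_invSelf, map_one, one_mul]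
      exact hle hy
  have hinj : ∀ x : R', θ x = 0 → x = 0 := fun x hx => by
    let F := Localization.Away (φ f)
    have hgF : IsUnit ((algebraMap R' F).comp φ g) := by
      have h : IsUnit (algebraMap R' F (φ f ^ m)) := by
        rw [map_pow]; exact (IsLocalization.Away.algebraMap_isUnit (φ f)).pow m
      rw [hp, map_mul] at h
      exact isUnit_of_mul_isUnit_left h
    obtain ⟨h, hh⟩ := hext F (algebraMap R' F) ((IsLocalization.Away.lift g hgF).comp σ)
      (by rw [RingHom.comp_assoc, hσ]; exact IsLocalization.Away.lift_comp g hgF)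
      (IsLocalization.Away.algebraMap_isUnit (φ f))
    refine IsLocalization.injective F (M := Submonoid.powers (φ f)) (Submonoid.powers_le.2 hfR) ?_
    rw [map_zero, ← hh, RingHom.comp_apply, hx, map_zero]
  have hbij : Function.Bijective ι := by
    refine ⟨(injective_iff_map_eq_zero ι).2 fun z hz => ?_, hsurj⟩
    obtain ⟨n, x, hnx⟩ := IsLocalization.Away.surj w z
    have h := congrArg ι hnx
    rw [map_mul, hz, zero_mul, hι] at h
    have := hinj x h.symm
    rw [this, map_zero] at hnx
    exact ((IsLocalization.Away.algebraMap_isUnit w).pow n).mul_left_eq_zero.1 hnx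
  exact IsLocalization.isLocalization_of_algEquiv (Submonoid.powers w)
    (AlgEquiv.ofBijective (R := R') (A₁ := Localization.Away w)
      { __ := ι, commutes' := hι } hbij)

end Groth.Agent.AdmOpen4
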