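import Groth.Agent.Lib.AdmOpen4.Graph
import Groth.Agent.Lib.AdmOpen4.CommonTarget

/-!
# A separated scheme properly quasi-dominating two models
-/

set_option autoImplicit false
set_option backward.isDefEq.respectTransparency false
universe u

open CategoryTheory CategoryTheory.Limits AlgebraicGeometry TopologicalSpace

namespace Groth.Agent.AdmOpen4

variable {S U : Scheme.{u}}

/-- A proper quasi-domination of `(X₁, g₁, j₁)` by `(X, q, k)`. -/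
def HasDom {X X₁ : Scheme.{u}} (q : X ⟶ S) (k : U ⟶ X) (g₁ : X₁ ⟶ S) (j₁ : U ⟶ X₁) : Prop :=
  ∃ (W : X.Opens) (l : U ⟶ (W : Scheme.{u})) (p : (W : Scheme.{u}) ⟶ X₁) (hp : W.ι ≫ q = p ≫ g₁),
    l ≫ W.ι = k ∧ l ≫ p = j₁ ∧ IsProper p ∧ IsClosed (Set.range (fun x => pullback.lift W.ι p hp x))

theorem hasDom_of_openImmersion {X X₁ Y : Scheme.{u}} (q : X ⟶ S) (k : U ⟶ X) (g₁ : X₁ ⟶ S) (j₁ : U ⟶ X₁)
    (α : Y ⟶ X) [IsOpenImmersion α] (c : Y ⟶ X₁) [IsProper c] (hw : α ≫ q = c ≫ g₁) (v : U ⟶ Y) (hv : v ≫ α = k)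
    (hvc : v ≫ c = j₁) (hcl : IsClosed (Set.range (pullback.lift α c hw))) : HasDom q k g₁ j₁ := by
  refine ⟨α.opensRange, v ≫ α.isoOpensRange.hom, α.isoOpensRange.inv ≫ c, ?_, ?_, ?_, inferInstance, ?_⟩
  · rw [← cancel_epi α.isoOpensRange.hom, Scheme.Hom.isoOpensRange_hom_ι_assoc, Category.assoc,
      Iso.hom_inv_id_assoc, hw]
  · rw [Category.assoc, Scheme.Hom.isoOpensRange_hom_ι, hv]
  · rw [Category.assoc, Iso.hom_inv_id_assoc, hvc]
  · have h : pullback.lift α.opensRange.ι (α.isoOpensRange.inv ≫ c)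
        (by rw [← cancel_epi α.isoOpensRange.hom, Scheme.Hom.isoOpensRange_hom_ι_assoc, Category.assoc,
          Iso.hom_inv_id_assoc, hw]) = α.isoOpensRange.inv ≫ pullback.lift α c hw := by
      apply pullback.hom_ext
      · exact (pullback.lift_fst _ _ _).trans ((Scheme.Hom.isoOpensRange_inv_comp α).symm.trans
          ((congrArg (α.isoOpensRange.inv ≫ ·) (pullback.lift_fst α c hw)).symm.trans (Category.assoc _ _ _).symm))
      · exact (pullback.lift_snd _ _ _).trans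
          ((congrArg (α.isoOpensRange.inv ≫ ·) (pullback.lift_snd α c hw)).symm.trans (Category.assoc _ _ _).symm)
    show IsClosed (Set.range (⇑(pullback.lift α.opensRange.ι (α.isoOpensRange.inv ≫ c) _)))
    rw [h, Scheme.Hom.comp_base, TopCat.coe_comp, Set.range_comp,
      Set.range_eq_univ.2 (show Function.Surjective α.isoOpensRange.inv from α.isoOpensRange.inv.homeomorph.surjective),
      Set.image_univ]
    exact hcl

theorem exists_two_dom [CompactSpace S] [QuasiSeparatedSpace S] {X₁ X₂ : Scheme.{u}} (g₁ : X₁ ⟶ S) (g₂ : X₂ ⟶ S)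
    [IsSeparated g₁] [QuasiCompact g₁] [LocallyOfFiniteType g₁] [IsSeparated g₂] [QuasiCompact g₂] [LocallyOfFiniteType g₂]
    (j₁ : U ⟶ X₁) (j₂ : U ⟶ X₂) [IsOpenImmersion j₁] [IsOpenImmersion j₂] [CompactSpace U]
    (hj : j₁ ≫ g₁ = j₂ ≫ g₂) :
    ∃ (X : Scheme.{u}) (q : X ⟶ S) (_ : IsSeparated q) (_ : QuasiCompact q) (_ : LocallyOfFiniteType q)
      (k : U ⟶ X) (_ : IsOpenImmersion k), k ≫ q = j₁ ≫ g₁ ∧ HasDom q k g₁ j₁ ∧ HasDom q k g₂ j₂ := by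
  haveI : CompactSpace X₁ := QuasiCompact.compactSpace_of_compactSpace g₁
  haveI : CompactSpace X₂ := QuasiCompact.compactSpace_of_compactSpace g₂
  haveI : QuasiSeparatedSpace X₁ := quasiSeparatedSpace_of_quasiSeparated g₁
  haveI : QuasiSeparatedSpace X₂ := quasiSeparatedSpace_of_quasiSeparated g₂
  haveI : QuasiSeparatedSpace (pullback g₁ g₂ :) :=
    quasiSeparatedSpace_of_quasiSeparated (pullback.fst g₁ g₂ ≫ g₁)
  let g₀ := pullback.lift j₁ j₂ hj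
  haveI : QuasiCompact g₀ := inferInstance
  haveI := EffCartier.dominant_toImage g₀
  let e := g₀.imageι
  let π₁ := e ≫ pullback.fst g₁ g₂
  let π₂ := e ≫ pullback.snd g₁ g₂
  haveI : CompactSpace g₀.image := QuasiCompact.compactSpace_of_compactSpace g₀.imageι
  have e₁ : g₀.toImage ≫ π₁ = j₁ := by rw [Scheme.Hom.toImage_imageι_assoc, pullback.lift_fst]
  have e₂ : g₀.toImage ≫ π₂ = j₂ := by rw [Scheme.Hom.toImage_imageι_assoc, pullback.lift_snd]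
  haveI := Nagata4.isIso_over g₀.toImage π₁ j₁ e₁
  haveI := Nagata4.isIso_over g₀.toImage π₂ j₂ e₂
  obtain ⟨I, J₁, J₂, Z, Yt₁, Yt₂, b, c₁, c₂, o₁, o₂, w₁, w₂, hb, hI, hc₁, hJ₁, hd₁, hc₂, hJ₂, hd₂, ho₁, ho₂, hcl₁, hcl₂⟩ :=
    AdmOpen4.exists_twoSided π₁ π₂ j₁.opensRange j₂.opensRange
      (isCompact_range j₁.continuous) (isCompact_range j₂.continuous)
  haveI : IsProper c₁ := BlowUpExist.isProper hJ₁ hc₁
  haveI : IsProper c₂ := BlowUpExist.isProper hJ₂ hc₂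
  haveI := QuasiCompact.compactSpace_of_compactSpace c₁
  haveI := QuasiCompact.compactSpace_of_compactSpace c₂
  have hU : ∀ x, g₀.toImage x ∈ π₁ ⁻¹ᵁ j₁.opensRange ⊓ π₂ ⁻¹ᵁ j₂.opensRange := fun x =>
    ⟨⟨x, by rw [← Scheme.Hom.comp_apply, e₁]⟩, ⟨x, by rw [← Scheme.Hom.comp_apply, e₂]⟩⟩
  have heff : BlowUp.IsEffCartierIdeal (I.comap g₀.toImage) := by
    rw [EffCartier.comap_eq_top _ _ fun x hx => Set.disjoint_left.1 hI.2 hx (hU x)]
    exact EffCartier.isEffCartierIdeal_top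
  obtain ⟨v, hv, -⟩ := hb.2 U g₀.toImage heff
  have hw₁ : (v ≫ o₁) ≫ c₁ = j₁ := by rw [Category.assoc, ← w₁, ← Category.assoc, hv, e₁]
  have hw₂ : (v ≫ o₂) ≫ c₂ = j₂ := by rw [Category.assoc, ← w₂, ← Category.assoc, hv, e₂]
  have h : o₁ ≫ c₁ ≫ g₁ = o₂ ≫ c₂ ≫ g₂ := by
    rw [← reassoc_of% w₁, ← reassoc_of% w₂]
    simp only [π₁, π₂, Category.assoc, pullback.condition]
  have hA : o₂ ≫ c₂ ≫ g₂ = (o₁ ≫ c₁) ≫ g₁ := by rw [Category.assoc, h]
  have hB : o₁ ≫ c₁ ≫ g₁ = (o₂ ≫ c₂) ≫ g₂ := by rw [Category.assoc, h]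
  haveI hclA : IsClosedImmersion (pullback.lift (f := c₂ ≫ g₂) (g := g₁) o₂ (o₁ ≫ c₁) hA) :=
    isClosedImmersion_cross g₁ g₂ e c₂ b o₂ w₂ (o₁ ≫ c₁) w₁.symm hA
  haveI hclB : IsClosedImmersion (pullback.lift (f := c₁ ≫ g₁) (g := g₂) o₁ (o₂ ≫ c₂) hB) := by
    have f1 : (e ≫ (pullbackSymmetry g₁ g₂).hom) ≫ pullback.snd g₂ g₁ = π₁ := by
      rw [Category.assoc, pullbackSymmetry_hom_comp_snd]
    have f2 : (e ≫ (pullbackSymmetry g₁ g₂).hom) ≫ pullback.fst g₂ g₁ = π₂ := by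
      rw [Category.assoc, pullbackSymmetry_hom_comp_fst]
    have w₁' : b ≫ (e ≫ (pullbackSymmetry g₁ g₂).hom) ≫ pullback.snd g₂ g₁ = o₁ ≫ c₁ := by rw [f1, w₁]
    haveI : IsClosedImmersion (pullback.lift b o₁ w₁') := by
      revert w₁'
      rw [f1]
      exact fun _ => hcl₁
    exact isClosedImmersion_cross g₂ g₁ (e ≫ (pullbackSymmetry g₁ g₂).hom) c₁ b o₁ w₁' (o₂ ≫ c₂)
      (by rw [f2, w₂]) hB
  haveI : IsClosedImmersion (pullback.lift o₁ o₂ h) := by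
    let m : pullback (c₁ ≫ g₁) (c₂ ≫ g₂) ⟶ pullback (c₁ ≫ g₁) g₂ :=
      pullback.lift (pullback.fst _ _) (pullback.snd _ _ ≫ c₂) (by rw [Category.assoc, pullback.condition])
    haveI : IsSeparated m := by
      haveI : IsSeparated (m ≫ pullback.fst (c₁ ≫ g₁) g₂) := by rw [pullback.lift_fst]; infer_instance
      exact IsSeparated.of_comp m (pullback.fst (c₁ ≫ g₁) g₂)
    haveI : IsClosedImmersion (pullback.lift o₁ o₂ h ≫ m) := by
      have : pullback.lift o₁ o₂ h ≫ m = pullback.lift o₁ (o₂ ≫ c₂) hB := by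
        apply pullback.hom_ext
        · rw [Category.assoc, pullback.lift_fst, pullback.lift_fst, pullback.lift_fst]
        · rw [Category.assoc, pullback.lift_snd, pullback.lift_snd_assoc, pullback.lift_snd]
      rw [this]; exact hclB
    exact IsClosedImmersion.of_comp _ m
  haveI : CompactSpace Z := by
    haveI : IsProper b := BlowUpExist.isProper hI.1 hb
    exact QuasiCompact.compactSpace_of_compactSpace b
  have hk₁ : IsOpenImmersion (v ≫ o₁) := by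
    refine (lift_isOpenImmersion hc₁ j₁ (hd₁.mono_right ?_) _ hw₁).1
    rintro _ ⟨x, rfl⟩
    exact ⟨g₀.toImage x, hU x, by show π₁ (g₀.toImage x) = j₁ x; rw [← Scheme.Hom.comp_apply, e₁]⟩
  let q := pushout.desc (c₁ ≫ g₁) (c₂ ≫ g₂) h
  have hl : pushout.inl o₁ o₂ ≫ q = c₁ ≫ g₁ := pushout.inl_desc _ _ _
  have hr : pushout.inr o₁ o₂ ≫ q = c₂ ≫ g₂ := pushout.inr_desc _ _ _
  have hcov : ∀ x, x ∈ (pushout.inl o₁ o₂).opensRange ∨ x ∈ (pushout.inr o₁ o₂).opensRange := fun x =>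
    (LimH13.range_inl_sup_range_inr o₁ o₂).ge (show x ∈ ⊤ from trivial)
  refine ⟨_, q, AdmOpen4.isSeparated_pushout o₁ o₂ _ _ h, AdmOpen4.quasiCompact_pushout o₁ o₂ _ _ h,
    AdmOpen4.locallyOfFiniteType_pushout o₁ o₂ _ _ h, (v ≫ o₁) ≫ pushout.inl o₁ o₂, inferInstance, ?_, ?_, ?_⟩
  · rw [Category.assoc, hl, ← Category.assoc, hw₁]
  · refine hasDom_of_openImmersion q _ g₁ j₁ (pushout.inl o₁ o₂) c₁ hl (v ≫ o₁) rfl hw₁ ?_
    exact isClosed_graph_piece q (pushout.inl o₁ o₂) (pushout.inr o₁ o₂) hcov o₁ o₂ pushout.condition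
      (fun y t he => LimH13.exists_of_inl_eq_inr o₁ o₂ he) (c₁ ≫ g₁) (c₂ ≫ g₂) hl hr g₁ c₁ rfl (o₁ ≫ c₁) rfl hA
      hclA.base_closed.isClosed_range hl
  · refine hasDom_of_openImmersion q _ g₂ j₂ (pushout.inr o₁ o₂) c₂ hr (v ≫ o₂) ?_ hw₂ ?_
    · rw [Category.assoc, Category.assoc, pushout.condition]
    exact isClosed_graph_piece q (pushout.inr o₁ o₂) (pushout.inl o₁ o₂) (fun x => (hcov x).symm) o₂ o₁ pushout.condition.symm
      (fun t y he => by obtain ⟨w, h1, h2⟩ := LimH13.exists_of_inl_eq_inr o₁ o₂ he.symm; exact ⟨w, h2, h1⟩)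
      (c₂ ≫ g₂) (c₁ ≫ g₁) hr hl g₂ c₂ rfl (o₂ ≫ c₂) rfl hB hclB.base_closed.isClosed_range hr

/-- Proper quasi-dominations restrict to closed subschemes containing the common open. -/
theorem HasDom.restrict {X X' X₁ : Scheme.{u}} {q : X ⟶ S} {k : U ⟶ X} {g₁ : X₁ ⟶ S} {j₁ : U ⟶ X₁}
    (hd : HasDom q k g₁ j₁) (m : X' ⟶ X) [IsProper m] (k' : U ⟶ X') (hk : k' ≫ m = k) :
    HasDom (m ≫ q) k' g₁ j₁ := by
  obtain ⟨W, l, p, hp, hlW, hlp, hpp, hcl⟩ := hd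
  have hr : Set.range k' ⊆ Set.range (m ⁻¹ᵁ W).ι := by
    rintro _ ⟨x, rfl⟩
    rw [Scheme.Opens.range_ι]
    show (k' ≫ m) x ∈ W
    rw [hk, ← hlW]
    exact (l x).2
  let l' := IsOpenImmersion.lift (m ⁻¹ᵁ W).ι k' hr
  have hl' : l' ≫ (m ⁻¹ᵁ W).ι = k' := IsOpenImmersion.lift_fac _ _ _
  have hl'm : l' ≫ (m ∣_ W) = l := by
    rw [← cancel_mono W.ι, Category.assoc, morphismRestrict_ι, reassoc_of% hl', hk, hlW]
  have hp' : (m ⁻¹ᵁ W).ι ≫ m ≫ q = ((m ∣_ W) ≫ p) ≫ g₁ := by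
    rw [Category.assoc, ← hp, morphismRestrict_ι_assoc]
  haveI : IsProper (m ∣_ W) := IsZariskiLocalAtTarget.restrict ‹_› W
  exact ⟨m ⁻¹ᵁ W, l', (m ∣_ W) ≫ p, hp', hl', by rw [reassoc_of% hl'm, hlp], inferInstance,
    isClosed_graph_restrict q g₁ m W p hp hcl hp'⟩

end Groth.Agent.AdmOpen4
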