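import Groth.Agent.Lib.AdmOpen4.BlowUp
import Groth.Agent.Lib.AdmOpen4.Open
import Groth.Agent.Lib.BlowUpComp4.Main

/-!
# Making a scheme open in blow-ups of two of its birational models at once
-/

set_option autoImplicit false
set_option backward.isDefEq.respectTransparency false
universe u

open CategoryTheory CategoryTheory.Limits AlgebraicGeometry TopologicalSpace

namespace Groth.Agent.AdmOpen4

theorem isOpenImmersion_comp_of_le {P Y : Scheme.{u}} (π : P ⟶ Y) (V : Y.Opens) [IsOpenImmersion (π ∣_ V)]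
    (O : P.Opens) (hO : O ≤ π ⁻¹ᵁ V) : IsOpenImmersion (O.ι ≫ π) := by
  rw [← P.homOfLE_ι hO, Category.assoc, ← morphismRestrict_ι]
  infer_instance

/-- The iso of two blow-ups in the same centre. -/
theorem exists_iso_of_isBlowUp {X A B : Scheme.{u}} {I : X.IdealSheafData} {a : A ⟶ X} {b : B ⟶ X}
    (ha : BlowUp.IsBlowUp a I) (hb : BlowUp.IsBlowUp b I) : ∃ e : A ⟶ B, IsIso e ∧ e ≫ b = a := by
  obtain ⟨e, he, -⟩ := hb.2 A a ha.1
  obtain ⟨f, hf, -⟩ := ha.2 B b hb.1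
  refine ⟨e, ⟨f, (ha.2 A a ha.1).unique ?_ (Category.id_comp a), (hb.2 B b hb.1).unique ?_ (Category.id_comp b)⟩, he⟩
  · show (e ≫ f) ≫ a = a
    rw [Category.assoc, hf, he]
  · show (f ≫ e) ≫ b = b
    rw [Category.assoc, he, hf]

/-- A further admissible blow-up of one model realises the blow-up of the middle scheme in a product centre. -/
theorem exists_side {P Y : Scheme.{u}} [CompactSpace Y] [QuasiSeparatedSpace Y] [CompactSpace P] (π : P ⟶ Y)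
    (V : Y.Opens) [IsOpenImmersion (π ∣_ V)] {K : Y.IdealSheafData} (hK : BlowUp.IsAdmissibleFor V K)
    (hsupp : (K.support : Set Y) = (V : Set Y)ᶜ)
    (H : ∀ {X' T : Scheme.{u}} (g : X' ⟶ Y) (a : T ⟶ P) (s : T ⟶ X'), IsStrict π g V a s →
      BlowUp.IsEffCartierIdeal (K.comap g) → IsOpenImmersion s)
    (O : P.Opens) (hOV : O ≤ π ⁻¹ᵁ V) (I' : P.IdealSheafData) (hI' : BlowUp.IsAdmissibleFor O I') :
    ∃ (J : Y.IdealSheafData) (Yt : Scheme.{u}) (c : Yt ⟶ Y) (Z : Scheme.{u}) (b : Z ⟶ P) (j : Z ⟶ Yt)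
      (w : b ≫ π = j ≫ c), BlowUp.IsBlowUp c J ∧ BlowUp.IsFiniteTypeIdeal J ∧
        Disjoint (J.support : Set Y) ((fun x => π x) '' (O : Set P)) ∧
        BlowUp.IsBlowUp b (K.comap π * I') ∧ IsOpenImmersion j ∧ IsClosedImmersion (pullback.lift b j w) := by
  haveI := isOpenImmersion_comp_of_le π V O hOV
  let c₁ := BlowUpExist.ChartIdx.blowUpHom K
  have hc₁ : BlowUp.IsBlowUp c₁ K := BlowUpExist.ChartIdx.isBlowUp_blowUpHom
  haveI : IsProper c₁ := BlowUpExist.isProper hK.1 hc₁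
  haveI := QuasiCompact.compactSpace_of_compactSpace c₁
  haveI := quasiSeparatedSpace_of_quasiSeparated c₁
  obtain ⟨T, a, s, hS⟩ := exists_isStrict_of_eff π c₁ hsupp hc₁.1
  haveI := H c₁ a s hS hc₁.1
  haveI : CompactSpace T := by
    haveI := hS.closed
    haveI : QuasiCompact a := by rw [← pullback.lift_fst a s hS.w]; infer_instance
    exact QuasiCompact.compactSpace_of_compactSpace a
  let W := s.opensRange
  have hW : IsCompact (SetLike.coe W) := by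
    show IsCompact (Set.range s)
    rw [← Set.image_univ]
    exact isCompact_univ.image s.continuous
  let r := s.isoOpensRange.inv
  have hr : r ≫ s = W.ι := by
    rw [Iso.inv_comp_eq]; exact (IsOpenImmersion.isoOfRangeEq_hom_fac _ _ _).symm
  let O₁ := (O.ι ≫ π).opensRange
  have hO₁ : (O₁ : Set Y) = (fun x => π x) '' (O : Set P) := by
    show Set.range (O.ι ≫ π) = _
    rw [Scheme.Hom.comp_base, TopCat.coe_comp, Set.range_comp, Scheme.Opens.range_ι]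
  have hO₁W : c₁ ⁻¹ᵁ O₁ ≤ W := by
    intro y hy
    obtain ⟨h, -, hh⟩ := hS.univ _ (pullback.fst (O.ι ≫ π) c₁ ≫ O.ι) (pullback.snd (O.ι ≫ π) c₁)
      (by rw [Category.assoc]; exact pullback.condition) (fun z => by
        rw [← Scheme.Hom.comp_apply, ← pullback.condition, Scheme.Hom.comp_apply]
        exact hOV (pullback.fst (O.ι ≫ π) c₁ z).2)
    obtain ⟨z, hz⟩ : y ∈ Set.range (pullback.snd (O.ι ≫ π) c₁) := by
      rw [AlgebraicGeometry.Scheme.Pullback.range_snd]; exact hy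
    exact ⟨h z, by rw [← Scheme.Hom.comp_apply, hh]; exact hz⟩
  have hadm : BlowUp.IsAdmissibleFor (W.ι ⁻¹ᵁ (c₁ ⁻¹ᵁ O₁)) (I'.comap (r ≫ a)) := by
    refine ⟨EffCartier.isFiniteTypeIdeal_comap hI'.1 _, ?_⟩
    rw [Scheme.IdealSheafData.support_comap, Set.disjoint_left]
    intro w hw hwO
    refine Set.disjoint_left.1 hI'.2 hw ?_
    have h1 : π ((r ≫ a) w) ∈ O₁ := by
      rw [← Scheme.Hom.comp_apply, Category.assoc, hS.w, ← Category.assoc, hr]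
      exact hwO
    obtain ⟨x, hx⟩ := h1
    rw [injective_on_preimage π V (y := (r ≫ a) w) (z := O.ι x) (by rw [← hx]; exact hOV x.2) (hOV x.2) hx.symm]
    exact x.2
  obtain ⟨J₁, hJ₁, hJ₁W⟩ := exists_isAdmissible_comap (c₁ ⁻¹ᵁ O₁) W hO₁W hW _ hadm
  let d := BlowUpExist.ChartIdx.blowUpHom J₁
  have hd : BlowUp.IsBlowUp d J₁ := BlowUpExist.ChartIdx.isBlowUp_blowUpHom
  obtain ⟨J, hJ, hJsupp, hJc⟩ := BlowUpComp4.exists_isBlowUp_comp hc₁ hK.1 hJ₁.1 hd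
  have hW' : BlowUp.IsBlowUp (r ≫ a) (K.comap π) := isBlowUp_iso_comp (isBlowUp_of_isStrict hS hc₁ hsupp) r
  refine ⟨J, _, d ≫ c₁, _, (d ∣_ W) ≫ r ≫ a, (d ⁻¹ᵁ W).ι, ?_, hJc, hJ, ?_,
    BlowUp26.isBlowUp_comp_mul hW' ?_, inferInstance, ?_⟩
  · rw [Category.assoc, Category.assoc, hS.w, ← Category.assoc r, hr, morphismRestrict_ι_assoc]
  · rw [hJsupp, ← hO₁, Set.disjoint_union_left]
    refine ⟨hK.2.mono_right fun x hx => ?_, Set.disjoint_left.2 ?_⟩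
    · obtain ⟨z, rfl⟩ := hx
      exact hOV z.2
    · rintro _ ⟨y, hy, rfl⟩ hy'
      exact Set.disjoint_left.1 hJ₁.2 hy hy'
  · rw [← hJ₁W]; exact BlowUpExist.isBlowUp_restrict hd W
  · let m : pullback π (d ≫ c₁) ⟶ pullback π c₁ :=
      pullback.lift (pullback.fst π (d ≫ c₁)) (pullback.snd π (d ≫ c₁) ≫ d)
        (by rw [pullback.condition, Category.assoc])
    have hm : IsPullback m (pullback.snd π (d ≫ c₁)) (pullback.snd π c₁) d :=
      IsPullback.of_right (by rw [pullback.lift_fst]; exact IsPullback.of_hasPullback π (d ≫ c₁))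
        (pullback.lift_snd _ _ _) (IsPullback.of_hasPullback π c₁)
    have hq : IsPullback ((d ∣_ W) ≫ r) (d ⁻¹ᵁ W).ι s d := by
      refine (isPullback_morphismRestrict d W).of_iso (Iso.refl _) s.isoOpensRange.symm (Iso.refl _) (Iso.refl _) ?_ ?_ ?_ ?_
      · simp [r]
      · simp
      · simp only [Iso.symm_hom, Iso.refl_hom, Category.comp_id]; exact hr.symm
      · simp
    haveI := hS.closed
    refine MorphismProperty.of_isPullback (P := @IsClosedImmersion) (g := pullback.lift a s hS.w) (f := m)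
      (f' := (d ∣_ W) ≫ r) ?_ inferInstance
    refine IsPullback.of_bot (v₂₁ := pullback.snd π (d ≫ c₁)) (v₂₂ := pullback.snd π c₁) (h₃₁ := d) ?_ ?_ hm
    · rw [pullback.lift_snd, pullback.lift_snd]; exact hq
    · apply pullback.hom_ext
      · simp only [m, Category.assoc, pullback.lift_fst]
      · simp only [m, Category.assoc, pullback.lift_snd, pullback.lift_snd_assoc]
        rw [hr, morphismRestrict_ι]

/-- Two birational models: common open subscheme of admissible blow-ups of both. -/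
theorem exists_twoSided {P Y₁ Y₂ : Scheme.{u}} [CompactSpace P] [CompactSpace Y₁] [QuasiSeparatedSpace Y₁]
    [CompactSpace Y₂] [QuasiSeparatedSpace Y₂] (π₁ : P ⟶ Y₁) (π₂ : P ⟶ Y₂)
    [IsSeparated π₁] [QuasiCompact π₁] [LocallyOfFiniteType π₁]
    [IsSeparated π₂] [QuasiCompact π₂] [LocallyOfFiniteType π₂]
    (V₁ : Y₁.Opens) (V₂ : Y₂.Opens) (hV₁ : IsCompact (V₁ : Set Y₁)) (hV₂ : IsCompact (V₂ : Set Y₂))
    [IsOpenImmersion (π₁ ∣_ V₁)] [IsOpenImmersion (π₂ ∣_ V₂)] :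
    ∃ (I : P.IdealSheafData) (J₁ : Y₁.IdealSheafData) (J₂ : Y₂.IdealSheafData)
      (Z Yt₁ Yt₂ : Scheme.{u}) (b : Z ⟶ P) (c₁ : Yt₁ ⟶ Y₁) (c₂ : Yt₂ ⟶ Y₂) (j₁ : Z ⟶ Yt₁) (j₂ : Z ⟶ Yt₂)
      (w₁ : b ≫ π₁ = j₁ ≫ c₁) (w₂ : b ≫ π₂ = j₂ ≫ c₂),
      BlowUp.IsBlowUp b I ∧ BlowUp.IsAdmissibleFor (π₁ ⁻¹ᵁ V₁ ⊓ π₂ ⁻¹ᵁ V₂) I ∧
      BlowUp.IsBlowUp c₁ J₁ ∧ BlowUp.IsFiniteTypeIdeal J₁ ∧
        Disjoint (J₁.support : Set Y₁) ((fun x => π₁ x) '' ((π₁ ⁻¹ᵁ V₁ ⊓ π₂ ⁻¹ᵁ V₂ : P.Opens) : Set P)) ∧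
      BlowUp.IsBlowUp c₂ J₂ ∧ BlowUp.IsFiniteTypeIdeal J₂ ∧
        Disjoint (J₂.support : Set Y₂) ((fun x => π₂ x) '' ((π₁ ⁻¹ᵁ V₁ ⊓ π₂ ⁻¹ᵁ V₂ : P.Opens) : Set P)) ∧
      IsOpenImmersion j₁ ∧ IsOpenImmersion j₂ ∧
      IsClosedImmersion (pullback.lift b j₁ w₁) ∧ IsClosedImmersion (pullback.lift b j₂ w₂) := by
  obtain ⟨K₁, hK₁, hs₁, H₁⟩ := exists_center π₁ V₁ hV₁
  obtain ⟨K₂, hK₂, hs₂, H₂⟩ := exists_center π₂ V₂ hV₂
  let O := π₁ ⁻¹ᵁ V₁ ⊓ π₂ ⁻¹ᵁ V₂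
  have hO₁ : BlowUp.IsAdmissibleFor O (K₁.comap π₁) := by
    obtain ⟨h, h'⟩ := isAdmissibleFor_comap (p := π₁) hK₁
    exact ⟨h, h'.mono_right fun _ hx => hx.1⟩
  have hO₂ : BlowUp.IsAdmissibleFor O (K₂.comap π₂) := by
    obtain ⟨h, h'⟩ := isAdmissibleFor_comap (p := π₂) hK₂
    exact ⟨h, h'.mono_right fun _ hx => hx.2⟩
  obtain ⟨J₁, Yt₁, c₁, Z, b, j₁, w₁, hc₁, hJ₁, hd₁, hb, hj₁, hcl₁⟩ :=
    exists_side π₁ V₁ hK₁ hs₁ H₁ O inf_le_left _ hO₂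
  obtain ⟨J₂, Yt₂, c₂, Z', b', j', w', hc₂, hJ₂, hd₂, hb', hj', hcl₂⟩ :=
    exists_side π₂ V₂ hK₂ hs₂ H₂ O inf_le_right _ hO₁
  rw [mul_comm] at hb'
  obtain ⟨e, he, heb⟩ := exists_iso_of_isBlowUp hb hb'
  refine ⟨_, J₁, J₂, Z, Yt₁, Yt₂, b, c₁, c₂, j₁, e ≫ j', w₁, by rw [← heb, Category.assoc, Category.assoc, w'],
    hb, isAdmissibleFor_mul hO₁ hO₂, hc₁, hJ₁, hd₁, hc₂, hJ₂, hd₂, hj₁, inferInstance, hcl₁, ?_⟩
  have h : pullback.lift b (e ≫ j') (by rw [← heb, Category.assoc, Category.assoc, w']) =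
      e ≫ pullback.lift b' j' w' := by
    apply pullback.hom_ext
    · simp [heb]
    · simp
  rw [h]
  infer_instance

end Groth.Agent.AdmOpen4
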